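import Mathlib.LinearAlgebra.Matrix.Charpoly.FiniteField
import Mathlib.LinearAlgebra.Matrix.Trace

/-!
A regular graph of degree at least 3 in which two distinct vertices have exactly one common neighbour
does not exist (the regular case of the friendship theorem).
-/

namespace CfsgLib.CyclicSylow

theorem not_regular_friendship {V : Type*} [Finite V] [Nonempty V] (R : V → V → Prop)
    (hsym : ∀ x y, R x y → R y x) (hirr : ∀ x, ¬ R x x) {d : ℕ} (hd : 3 ≤ d)
    (hdeg : ∀ x, Nat.card {y // R x y} = d)
    (huniq : ∀ x y, x ≠ y → ∃! z, R x z ∧ R z y) : False := by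
  classical
  have := Fintype.ofFinite V
  set r := (d - 1).minFac with hr
  have : Fact r.Prime := ⟨Nat.minFac_prime (by omega)⟩
  have hd1 : (d : ZMod r) = 1 := by
    have h : ((d - 1 : ℕ) : ZMod r) = 0 := (ZMod.natCast_eq_zero_iff _ _).2 (Nat.minFac_dvd _)
    rw [Nat.cast_sub (by omega), Nat.cast_one, sub_eq_zero] at h
    exact h
  let M : Matrix V V (ZMod r) := Matrix.of fun x y => if R x y then 1 else 0
  let J : Matrix V V (ZMod r) := Matrix.of fun _ _ => 1
  have hrow : ∀ x, ∑ y, M x y = (1 : ZMod r) := by
    intro x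
    rw [← hd1, ← hdeg x, Nat.card_eq_fintype_card, Fintype.card_subtype]
    simp [M, Finset.sum_boole]
  have hMM : M * M = J := by
    ext x y
    rw [Matrix.mul_apply]
    by_cases hxy : x = y
    · subst hxy
      refine Eq.trans (Finset.sum_congr rfl fun z _ => ?_) (hrow x)
      by_cases h : R x z
      · simp [M, h, hsym x z h]
      · simp [M, h]
    · obtain ⟨z, hz, hz'⟩ := huniq x y hxy
      rw [Finset.sum_eq_single z]
      · simp [M, J, hz.1, hz.2]
      · intro b _ hb
        by_cases h : R x b ∧ R b y
        · exact absurd (hz' b h) hb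
        · rcases not_and_or.1 h with h | h <;> simp [M, h]
      · simp
  have hMJ : M * J = J := by
    ext x y
    rw [Matrix.mul_apply]
    simpa [J] using hrow x
  have hpow : ∀ k, 2 ≤ k → M ^ k = J := by
    intro k hk
    induction k, hk using Nat.le_induction with
    | base => rw [pow_two, hMM]
    | succ k _ ih => rw [pow_succ', ih, hMJ]
  have hJJ : J * J = J := by
    have h := hpow 4 (by norm_num)
    rw [show M ^ 4 = M ^ 2 * M ^ 2 by rw [← pow_add], hpow 2 le_rfl] at h
    exact h
  have hcard : (Fintype.card V : ZMod r) = 1 := by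
    obtain ⟨x⟩ := ‹Nonempty V›
    have h := congrFun (congrFun hJJ x) x
    simpa [J, Matrix.mul_apply] using h
  have h0 : Matrix.trace M = 0 := by simp [Matrix.trace, M, hirr]
  have h1 : Matrix.trace (M ^ r) = 1 := by
    rw [hpow r (Fact.out (p := r.Prime)).two_le]
    simpa [Matrix.trace, J] using hcard
  rw [ZMod.trace_pow_card, h0, zero_pow (Fact.out (p := r.Prime)).ne_zero] at h1
  exact zero_ne_one h1

end CfsgLib.CyclicSylow
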