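import Cfsg.Agent.CyclicSylow.Setting
import Cfsg.Agent.CyclicSylow.Friendship

/-!
The minimal configuration for the dichotomy "normal `p`-complement or normal cyclic Sylow subgroup" is
impossible.
-/

namespace CfsgLib.CyclicSylow

open CfsgLib.Transfer

section
variable {p : ℕ} {G : Type*} [Group G] [Finite G] [hp : Fact p.Prime]

/-- The properties of a minimal counterexample that are used below. -/
structure Config (P : Sylow p G) (w : G) : Prop where
  hab : AbelianPPrime p G
  hc : IsCyclic P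
  hnc : ¬ Subgroup.normalizer ((P : Subgroup G) : Set G) ≤ Subgroup.centralizer ((P : Subgroup G) : Set G)
  hw : w ∈ (P : Subgroup G)
  hwo : orderOf w = p
  hw_cent : ∀ g, g ∈ Subgroup.normalizer ((Subgroup.zpowers w : Subgroup G) : Set G) →
    g ∈ Subgroup.normalizer ((P : Subgroup G) : Set G)
  hcent : ∀ a : G, a ≠ 1 → (orderOf a).Coprime p → a ∈ Subgroup.centralizer ((P : Subgroup G) : Set G) →
    ∀ g, Commute a g → g ∈ Subgroup.normalizer ((P : Subgroup G) : Set G)
  hq : ∀ q : ℕ, ∀ _ : Fact q.Prime, q ≠ p → q ∣ Nat.card G → ∀ Q : Sylow q G,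
    ¬ Subgroup.normalizer ((Q : Subgroup G) : Set G) ≤ Subgroup.centralizer ((Q : Subgroup G) : Set G)

variable {P : Sylow p G} {w : G} (h : Config P w)
include h

theorem Config.conj_w_mem {g : G} (hg : g ∈ Subgroup.normalizer ((P : Subgroup G) : Set G)) :
    g * w * g⁻¹ ∈ Subgroup.zpowers w := by
  refine mem_zpowers_of_orderOf P h.hc ((Subgroup.mem_normalizer_iff.1 hg w).1 h.hw) h.hw ?_ ?_
  · rw [← h.hwo]
    exact orderOf_injective (MulAut.conj g).toMonoidHom (MulAut.conj g).injective w
  · intro h1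
    have := h.hwo
    rw [h1, orderOf_one] at this
    exact hp.out.ne_one this.symm

theorem Config.w_ne_one : w ≠ 1 := fun h1 => by
  have := h.hwo
  rw [h1, orderOf_one] at this
  exact hp.out.ne_one this.symm

theorem Config.le_normalizer_w :
    Subgroup.normalizer ((P : Subgroup G) : Set G) ≤
      Subgroup.normalizer ((Subgroup.zpowers w : Subgroup G) : Set G) := by
  have key : ∀ g ∈ Subgroup.normalizer ((P : Subgroup G) : Set G), ∀ x ∈ Subgroup.zpowers w,
      g * x * g⁻¹ ∈ Subgroup.zpowers w := by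
    intro g hg x hx
    obtain ⟨i, rfl⟩ := Subgroup.mem_zpowers_iff.1 hx
    rw [← conj_zpow]
    exact zpow_mem (h.conj_w_mem hg) i
  intro g hg
  refine Subgroup.mem_normalizer_iff.2 fun x => ⟨key g hg x, fun hx => ?_⟩
  have := key g⁻¹ (inv_mem hg) _ hx
  simpa [mul_assoc] using this

/-- Elements centralising a nontrivial element of `P` normalise `P`. -/
theorem Config.mem_normalizer_of_commute {x g : G} (hx : x ∈ (P : Subgroup G)) (hx1 : x ≠ 1)
    (hg : Commute g x) : g ∈ Subgroup.normalizer ((P : Subgroup G) : Set G) := by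
  refine h.hw_cent g (Subgroup.centralizer_le_normalizer _ (Subgroup.mem_centralizer_iff.2 fun v hv => ?_))
  obtain ⟨i, rfl⟩ := Subgroup.mem_zpowers_iff.1 hv
  obtain ⟨j, hj⟩ := Subgroup.mem_zpowers_iff.1 (mem_zpowers_of_orderOf P h.hc h.hw hx h.hwo hx1)
  rw [← hj]
  exact ((hg.zpow_right j).zpow_right i).eq.symm

theorem Config.mem_centralizer_of_commute {x g : G} (hx : x ∈ (P : Subgroup G)) (hx1 : x ≠ 1)
    (hg : Commute g x) (hgo : (orderOf g).Coprime p) :
    g ∈ Subgroup.centralizer ((P : Subgroup G) : Set G) :=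
  mem_centralizer_of_fixes P h.hc (h.mem_normalizer_of_commute hx hx1 hg) hgo hx hx1 hg

/-- An element of `C(P)` of order prime to `p` is central in `N(P)`. -/
theorem Config.commute_normalizer {a g : G} (ha : (orderOf a).Coprime p)
    (haC : a ∈ Subgroup.centralizer ((P : Subgroup G) : Set G))
    (hg : g ∈ Subgroup.normalizer ((P : Subgroup G) : Set G)) : Commute a g := by
  obtain ⟨A, hAN, hAc, hprod⟩ := exists_normalizer_complement P
  obtain ⟨y, hy, b, hb, rfl⟩ := hprod g hg
  have hay : Commute a y := (Subgroup.mem_centralizer_iff.1 haC y hy).symm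
  refine hay.mul_right ?_
  set C := Subgroup.centralizer ((P : Subgroup G) : Set G) with hC
  let K := (Cfsg.pResidual p C).map C.subtype
  have hcompl : Cfsg.HasNormalPComplement p C := by
    have hPC : (P : Subgroup G) ≤ C := le_centralizer P h.hc
    let S : Sylow p C := P.subtype hPC
    have hS : Subgroup.normalizer ((S : Subgroup C) : Set C) ≤ Subgroup.centralizer ((S : Subgroup C) : Set C) := by
      intro x _
      refine Subgroup.mem_centralizer_iff.2 fun s hs => Subtype.ext ?_
      exact Subgroup.mem_centralizer_iff.1 x.2 (s : G) hs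
    exact ⟨S, _, inferInstance, MonoidHom.ker_transferSylow_isComplement' S hS⟩
  have hK : ¬ p ∣ Nat.card K := by
    rw [Subgroup.card_map_of_injective C.subtype_injective]
    exact hasNormalPComplement_iff.1 hcompl
  have hKmem : ∀ x ∈ C, (orderOf x).Coprime p → x ∈ K := fun x hx hxo =>
    ⟨⟨x, hx⟩, mem_pResidual_of_coprime (by rwa [Subgroup.orderOf_mk]), rfl⟩
  have hbN := hAN hb
  have hbo : (orderOf b).Coprime p := by
    refine (hp.out.coprime_iff_not_dvd.2 fun hd => ?_).symm
    have hpP : p ∣ Nat.card (P : Subgroup G) := by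
      have := Subgroup.orderOf_dvd_natCard _ h.hw
      rwa [h.hwo] at this
    exact hp.out.ne_one (Nat.eq_one_of_dvd_coprimes hAc (hd.trans (Subgroup.orderOf_dvd_natCard _ hb)) hpP)
  refine (h.hab.commute hK ?_ hbo (hKmem a haC ha)).symm
  have key : ∀ c ∈ Subgroup.normalizer ((P : Subgroup G) : Set G), ∀ x ∈ K, c * x * c⁻¹ ∈ K := by
    rintro c hc _ ⟨⟨x, hx⟩, hxr, rfl⟩
    refine hKmem _ ?_ ?_
    · refine Subgroup.mem_centralizer_iff.2 fun v hv => ?_
      have hv' := (Subgroup.mem_normalizer_iff.1 (inv_mem hc) v).1 hv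
      have := Subgroup.mem_centralizer_iff.1 hx _ hv'
      calc v * (c * x * c⁻¹) = c * ((c⁻¹ * v * c⁻¹⁻¹) * x) * c⁻¹ := by group
        _ = c * (x * (c⁻¹ * v * c⁻¹⁻¹)) * c⁻¹ := by rw [this]
        _ = c * x * c⁻¹ * v := by group
    · show (orderOf (c * x * c⁻¹)).Coprime p
      have e := orderOf_injective (MulAut.conj c).toMonoidHom (MulAut.conj c).injective x
      rw [show c * x * c⁻¹ = (MulAut.conj c).toMonoidHom x from rfl, e]
      have hd : orderOf (⟨x, hx⟩ : C) ∣ Nat.card (Cfsg.pResidual p C) :=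
        Subgroup.orderOf_dvd_natCard _ hxr
      rw [Subgroup.orderOf_mk] at hd
      exact Nat.Coprime.coprime_dvd_left hd
        (hp.out.coprime_iff_not_dvd.2 (hasNormalPComplement_iff.1 hcompl)).symm
  refine Subgroup.mem_normalizer_iff.2 fun x => ⟨key b hbN x, fun hx => ?_⟩
  have := key b⁻¹ (inv_mem hbN) _ hx
  simpa [mul_assoc] using this

/-- For a Sylow subgroup of another prime: some `p`-element normalises it without centralising it. -/
theorem Config.exists_pElement {q : ℕ} [hqf : Fact q.Prime] (hqp : q ≠ p) (hqG : q ∣ Nat.card G)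
    (Q : Sylow q G) :
    ∃ y : G, (∃ k, orderOf y = p ^ k) ∧ y ∈ Subgroup.normalizer ((Q : Subgroup G) : Set G) ∧
      y ∉ Subgroup.centralizer ((Q : Subgroup G) : Set G) := by
  obtain ⟨n, hn, hnC⟩ := SetLike.not_le_iff_exists.1 (h.hq q hqf hqp hqG Q)
  obtain ⟨a, b, hab, -, hak, hb, haz, hbz⟩ := exists_pPart_mul (p := p) n
  have hz : Subgroup.zpowers n ≤ Subgroup.normalizer ((Q : Subgroup G) : Set G) := Subgroup.zpowers_le.2 hn
  refine ⟨a, hak, hz haz, fun haC => hnC (hab ▸ mul_mem haC ?_)⟩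
  have hQ : ¬ p ∣ Nat.card (Q : Subgroup G) := by
    obtain ⟨l, hl⟩ := IsPGroup.iff_card.mp Q.isPGroup'
    rw [hl]
    exact fun hd => hqp ((Nat.prime_dvd_prime_iff_eq hp.out hqf.out).1 (hp.out.dvd_of_dvd_pow hd)).symm
  exact Subgroup.mem_centralizer_iff.2 fun k hk => (h.hab.commute hQ (hz hbz) hb hk).eq.symm

/-- The action of `N(P)` on the subgroup of order `p`. -/
noncomputable def Config.chi : Subgroup.normalizer ((P : Subgroup G) : Set G) →* MulAut (Subgroup.zpowers w) :=
  (Subgroup.zpowers w).normalizerMonoidHom.comp (Subgroup.inclusion h.le_normalizer_w)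

theorem Config.card_mulAut : Nat.card (MulAut (Subgroup.zpowers w)) = p - 1 := by
  rw [IsCyclic.card_mulAut, Nat.card_zpowers, h.hwo, Nat.totient_prime hp.out]

theorem Config.isCyclic_mulAut : IsCyclic (MulAut (Subgroup.zpowers w)) := by
  have e : MulAut (Subgroup.zpowers w) ≃* (ZMod p)ˣ := by
    have e0 := IsCyclic.mulAutMulEquiv (G := Subgroup.zpowers w)
    rw [Nat.card_zpowers, h.hwo] at e0
    exact e0
  exact isCyclic_of_surjective e.symm.toMonoidHom e.symm.surjective

/-- Kernel of the action: the elements of `N(P)` centralising `P`. -/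
theorem Config.chi_eq_one_iff (g : Subgroup.normalizer ((P : Subgroup G) : Set G)) :
    h.chi g = 1 ↔ (g : G) ∈ Subgroup.centralizer ((P : Subgroup G) : Set G) := by
  have hiff : h.chi g = 1 ↔ Commute (g : G) w := by
    rw [Config.chi, MonoidHom.comp_apply, ← MonoidHom.mem_ker, Subgroup.normalizerMonoidHom_ker,
      Subgroup.mem_subgroupOf, Subgroup.mem_centralizer_iff]
    refine ⟨fun H => (H w (Subgroup.mem_zpowers w)).symm, fun H x hx => ?_⟩
    obtain ⟨i, rfl⟩ := Subgroup.mem_zpowers_iff.1 hx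
    exact (H.zpow_right i).eq.symm
  rw [hiff]
  refine ⟨fun hcm => ?_, fun H => (Subgroup.mem_centralizer_iff.1 H w h.hw).symm⟩
  obtain ⟨a, b, hab, -, ⟨k, hak⟩, hb, haz, hbz⟩ := exists_pPart_mul (p := p) (g : G)
  have haP := mem_sylow_of_normalizer P hak (Subgroup.zpowers_le.2 g.2 haz)
  rw [hab]
  refine mul_mem (le_centralizer P h.hc haP) ?_
  obtain ⟨i, hi⟩ := Subgroup.mem_zpowers_iff.1 hbz
  exact mem_centralizer_of_fixes P h.hc (Subgroup.zpowers_le.2 g.2 hbz) hb h.hw h.w_ne_one
    (hi ▸ hcm.zpow_left i)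

end

end CfsgLib.CyclicSylow
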