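import Cfsg.Agent.CyclicSylow.Core

/-!
The minimal configuration: the case of a self-centralising Sylow subgroup (a congruence modulo `p`), and
the bounds for a prime dividing the `p'`-part of `C(P)`.
-/

namespace CfsgLib.CyclicSylow

open CfsgLib.Transfer

theorem natCast_eq_one {p n : ℕ} (hn : n ≠ 0)
    (h : ∀ q : ℕ, q.Prime → q ∣ n → ((q ^ n.factorization q : ℕ) : ZMod p) = 1) : (n : ZMod p) = 1 := by
  rw [← Nat.prod_factorization_pow_eq_self hn, Finsupp.prod, Nat.cast_prod]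
  refine Finset.prod_eq_one fun q hq => ?_
  rw [Nat.support_factorization, Nat.mem_primeFactors] at hq
  exact h q hq.1 hq.2.1

section
variable {p : ℕ} {G : Type*} [Group G] [Finite G] [hp : Fact p.Prime]

theorem exists_conj_mem_sylow (P : Sylow p G) {y : G} {k : ℕ} (hy : orderOf y = p ^ k) :
    ∃ g : G, g * y * g⁻¹ ∈ (P : Subgroup G) := by
  obtain ⟨P', hP'⟩ := (IsPGroup.of_card (p := p) (G := Subgroup.zpowers y)
    (by rw [Nat.card_zpowers]; exact hy)).exists_le_sylow
  obtain ⟨g, hg⟩ := MulAction.exists_smul_eq G P' P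
  refine ⟨g, ?_⟩
  rw [← hg]
  exact ⟨y, hP' (Subgroup.mem_zpowers y), rfl⟩

theorem orderOf_conj' (g x : G) : orderOf (g * x * g⁻¹) = orderOf x :=
  orderOf_injective (MulAut.conj g).toMonoidHom (MulAut.conj g).injective x

theorem commute_conj {a b : G} (g : G) (hc : Commute a b) : Commute (g * a * g⁻¹) (g * b * g⁻¹) := by
  show g * a * g⁻¹ * (g * b * g⁻¹) = g * b * g⁻¹ * (g * a * g⁻¹)
  rw [conj_mul, conj_mul, hc.eq]

theorem coprime_of_mem_sylow {q : ℕ} [hqf : Fact q.Prime] (hqp : q ≠ p) (Q : Sylow q G) {u : G}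
    (hu : u ∈ (Q : Subgroup G)) : (orderOf u).Coprime p := by
  obtain ⟨l, hl⟩ := IsPGroup.iff_card.mp Q.isPGroup'
  exact Nat.Coprime.coprime_dvd_left (hl ▸ Subgroup.orderOf_dvd_natCard _ hu)
    (Nat.Coprime.pow_left l ((Nat.coprime_primes hqf.out hp.out).2 hqp))

variable {P : Sylow p G} {w : G} (h : Config P w)
include h

theorem Config.exists_free_or_prime :
    (∀ a : G, (orderOf a).Coprime p → a ∈ Subgroup.centralizer ((P : Subgroup G) : Set G) → a = 1) →
      False := by
  intro hfree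
  have hsyl : ∀ q : ℕ, q.Prime → q ≠ p → q ∣ Nat.card G →
      ((q ^ (Nat.card G).factorization q : ℕ) : ZMod p) = 1 := by
    intro q hq hqp hqG
    have : Fact q.Prime := ⟨hq⟩
    obtain ⟨Q⟩ : Nonempty (Sylow q G) := inferInstance
    obtain ⟨y, ⟨k, hk⟩, hyN, hyC⟩ := h.exists_pElement hqp hqG Q
    rw [← Sylow.card_eq_multiplicity Q]
    have hY : IsPGroup p (Subgroup.zpowers y) := IsPGroup.of_card (by rw [Nat.card_zpowers]; exact hk)
    let f : Subgroup.zpowers y →* MulAut (Q : Subgroup G) :=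
      (Q : Subgroup G).normalizerMonoidHom.comp (Subgroup.inclusion (Subgroup.zpowers_le.2 hyN))
    letI : MulAction (Subgroup.zpowers y) (Q : Subgroup G) := MulAction.compHom _ f
    have hmod := hY.card_modEq_card_fixedPoints (Q : Subgroup G)
    have hfix : Nat.card (MulAction.fixedPoints (Subgroup.zpowers y) (Q : Subgroup G)) = 1 := by
      refine Nat.card_eq_one_iff_unique.2 ⟨⟨fun a b => ?_⟩, ⟨⟨1, fun g => map_one (f g)⟩⟩⟩
      suffices hone : ∀ c : MulAction.fixedPoints (Subgroup.zpowers y) (Q : Subgroup G),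
          ((c : (Q : Subgroup G)) : G) = 1 by
        exact Subtype.ext (Subtype.ext ((hone a).trans (hone b).symm))
      intro c
      have hc : y * ((c : (Q : Subgroup G)) : G) * y⁻¹ = (c : (Q : Subgroup G)) :=
        congrArg Subtype.val (c.2 ⟨y, Subgroup.mem_zpowers y⟩)
      have hcy : Commute y ((c : (Q : Subgroup G)) : G) := mul_inv_eq_iff_eq_mul.1 hc
      have hy1 : y ≠ 1 := fun h1 => hyC (h1 ▸ one_mem _)
      obtain ⟨g, hg⟩ := exists_conj_mem_sylow P hk
      have hco : (orderOf (g * ((c : (Q : Subgroup G)) : G) * g⁻¹)).Coprime p := by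
        rw [orderOf_conj']; exact coprime_of_mem_sylow hqp Q (c : (Q : Subgroup G)).2
      have := hfree _ hco (h.mem_centralizer_of_commute hg
        (fun h1 => hy1 (conj_eq_one_iff.1 h1)) (commute_conj g hcy.symm) hco)
      exact conj_eq_one_iff.1 this
    rw [hfix] at hmod
    have := (ZMod.natCast_eq_natCast_iff _ _ p).2 hmod
    simpa using this
  set N := Subgroup.normalizer ((P : Subgroup G) : Set G) with hN
  have hindex : (((P : Subgroup G).index : ℕ) : ZMod p) = 1 := by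
    refine natCast_eq_one Subgroup.index_ne_zero_of_finite fun q hq hqd => ?_
    have hqp : q ≠ p := fun e => P.not_dvd_index (e ▸ hqd)
    rw [show (P : Subgroup G).index.factorization q = (Nat.card G).factorization q from ?_]
    · exact hsyl q hq hqp (hqd.trans (Subgroup.index_dvd_card _))
    · obtain ⟨k, hk⟩ := IsPGroup.iff_card.mp P.isPGroup'
      rw [← (P : Subgroup G).card_mul_index, hk,
        Nat.factorization_mul (pow_ne_zero _ hp.out.ne_zero) Subgroup.index_ne_zero_of_finite,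
        Finsupp.add_apply, hp.out.factorization_pow, Finsupp.single_eq_of_ne hqp, zero_add]
  have hnp : ((N.index : ℕ) : ZMod p) = 1 := by
    rw [show N.index = Nat.card (Sylow p G) from P.card_eq_index_normalizer.symm]
    simpa using (ZMod.natCast_eq_natCast_iff _ _ p).2 (card_sylow_modEq_one p G)
  rw [← Subgroup.relIndex_mul_index (Subgroup.le_normalizer (H := (P : Subgroup G))), Nat.cast_mul] at hindex
  rw [show Subgroup.normalizer ((P : Subgroup G) : Set G) = N from rfl, hnp, mul_one] at hindex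
  have hker : h.chi.ker = (P : Subgroup G).subgroupOf N := by
    ext g
    rw [MonoidHom.mem_ker, h.chi_eq_one_iff, Subgroup.mem_subgroupOf]
    refine ⟨fun hg => ?_, fun hg => le_centralizer P h.hc hg⟩
    obtain ⟨a, b, hab, -, ⟨k, hak⟩, hb, haz, hbz⟩ := exists_pPart_mul (p := p) (g : G)
    rw [hfree b hb (Subgroup.zpowers_le.2 hg hbz), mul_one] at hab
    rw [hab]
    exact mem_sylow_of_normalizer P hak (Subgroup.zpowers_le.2 g.2 haz)
  have hle : (P : Subgroup G).relIndex N ≤ p - 1 := by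
    rw [Subgroup.relIndex, ← hker, Subgroup.index_ker, ← h.card_mulAut]
    exact Subgroup.card_le_card_group _
  have hpos : (P : Subgroup G).relIndex N ≠ 0 := Subgroup.index_ne_zero_of_finite
  have hone : (P : Subgroup G).relIndex N = 1 := by
    have hm : (P : Subgroup G).relIndex N ≡ 1 [MOD p] :=
      (ZMod.natCast_eq_natCast_iff _ _ p).1 (by rw [hindex, Nat.cast_one])
    rwa [Nat.ModEq, Nat.mod_eq_of_lt (by have := hp.out.two_le; omega),
      Nat.mod_eq_of_lt hp.out.one_lt] at hm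
  exact h.hnc ((Subgroup.relIndex_eq_one.1 hone).trans (le_centralizer P h.hc))

theorem Config.mem_normalizer_of_conj {u y : G} (hu : (orderOf u).Coprime p)
    (huC : u ∈ Subgroup.centralizer ((P : Subgroup G) : Set G)) (hu1 : u ≠ 1)
    (hvC : y * u * y⁻¹ ∈ Subgroup.centralizer ((P : Subgroup G) : Set G)) :
    y ∈ Subgroup.normalizer ((P : Subgroup G) : Set G) := by
  refine Subgroup.mem_normalizer_iff.2 ?_
  have key : ∀ z v : G, (orderOf v).Coprime p → v ∈ Subgroup.centralizer ((P : Subgroup G) : Set G) →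
      v ≠ 1 → z * v * z⁻¹ ∈ Subgroup.centralizer ((P : Subgroup G) : Set G) →
      ∀ x ∈ (P : Subgroup G), z * x * z⁻¹ ∈ (P : Subgroup G) := by
    intro z v hv hvC hv1 hzvC x hx
    obtain ⟨k, hk⟩ := P.isPGroup' ⟨x, hx⟩
    obtain ⟨i, -, hi⟩ := (Nat.dvd_prime_pow hp.out).1
      (orderOf_dvd_of_pow_eq_one (congrArg Subtype.val hk : x ^ p ^ k = 1))
    refine mem_sylow_of_normalizer P (k := i) (by rw [orderOf_conj']; exact hi) ?_
    exact h.hcent _ (fun h1 => hv1 (conj_eq_one_iff.1 h1)) (by rwa [orderOf_conj']) hzvC _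
      (commute_conj z (Subgroup.mem_centralizer_iff.1 hvC x hx).symm)
  intro x
  refine ⟨key y u hu huC hu1 hvC x, fun hx => ?_⟩
  have := key y⁻¹ (y * u * y⁻¹) (by rwa [orderOf_conj']) hvC (fun h1 => hu1 (conj_eq_one_iff.1 h1))
    (by simpa [mul_assoc] using huC) _ hx
  simpa [mul_assoc] using this

theorem Config.sylow_le_normalizer {q : ℕ} [hqf : Fact q.Prime] (hqp : q ≠ p) (Q : Sylow q G) {a : G}
    (ha : a ∈ (Q : Subgroup G)) (ha1 : a ≠ 1)
    (haC : a ∈ Subgroup.centralizer ((P : Subgroup G) : Set G)) :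
    (Q : Subgroup G) ≤ Subgroup.normalizer ((P : Subgroup G) : Set G) := by
  intro u hu
  have hQ : ¬ p ∣ Nat.card (Q : Subgroup G) := by
    obtain ⟨l, hl⟩ := IsPGroup.iff_card.mp Q.isPGroup'
    rw [hl]
    exact fun hd => hqp ((Nat.prime_dvd_prime_iff_eq hp.out hqf.out).1 (hp.out.dvd_of_dvd_pow hd)).symm
  exact h.hcent a ha1 (coprime_of_mem_sylow hqp Q ha) haC u
    (commute_of_isMulCommutative (h.hab _ hQ) ha hu)

theorem Config.not_mem_normalizer {q : ℕ} [hqf : Fact q.Prime] (hqp : q ≠ p) (Q : Sylow q G)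
    (hQN : (Q : Subgroup G) ≤ Subgroup.normalizer ((P : Subgroup G) : Set G)) {y : G} {k : ℕ}
    (hk : orderOf y = p ^ k) (hyQ : y ∈ Subgroup.normalizer ((Q : Subgroup G) : Set G))
    (hyC : y ∉ Subgroup.centralizer ((Q : Subgroup G) : Set G)) :
    y ∉ Subgroup.normalizer ((P : Subgroup G) : Set G) := by
  intro hy
  have hyP := mem_sylow_of_normalizer P hk hy
  refine hyC (Subgroup.mem_centralizer_iff.2 fun u hu => ?_)
  have hmemQ : y * u * y⁻¹ * u⁻¹ ∈ (Q : Subgroup G) :=
    mul_mem ((Subgroup.mem_normalizer_iff.1 hyQ u).1 hu) (inv_mem hu)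
  have hmemP : y * u * y⁻¹ * u⁻¹ ∈ (P : Subgroup G) := by
    rw [show y * u * y⁻¹ * u⁻¹ = y * (u * y⁻¹ * u⁻¹) by group]
    exact mul_mem hyP ((Subgroup.mem_normalizer_iff.1 (hQN hu) _).1 (inv_mem hyP))
  have := eq_one_of_mem_sylow P (coprime_of_mem_sylow hqp Q hmemQ) hmemP
  exact (mul_inv_eq_iff_eq_mul.1 (mul_inv_eq_one.1 this)).symm

/-- The `q`-torsion of an abelian Sylow subgroup meeting `C(P)`, seen twice in `Aut Ω₁(P)`. -/
theorem Config.torsion_bound {q : ℕ} [hqf : Fact q.Prime] (hqp : q ≠ p) {a : G} (ha : orderOf a = q)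
    (haC : a ∈ Subgroup.centralizer ((P : Subgroup G) : Set G)) (Q : Sylow q G)
    (haQ : a ∈ (Q : Subgroup G)) :
    ∃ y : G, y ∈ Subgroup.normalizer ((Q : Subgroup G) : Set G) ∧
      y ∉ Subgroup.normalizer ((P : Subgroup G) : Set G) ∧ q = 2 ∧ p = 3 ∧
      (∀ u ∈ (Q : Subgroup G), orderOf u = 2 → ∃ g : G, g * a * g⁻¹ = u) := by
  have ha1 : a ≠ 1 := fun h1 => by rw [h1, orderOf_one] at ha; exact hqf.out.ne_one ha.symm
  have haco := coprime_of_mem_sylow hqp Q haQ
  have hQN := h.sylow_le_normalizer hqp Q haQ ha1 haC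
  have hqG : q ∣ Nat.card G := ha ▸ orderOf_dvd_natCard a
  obtain ⟨y, ⟨k, hk⟩, hyQ, hyC⟩ := h.exists_pElement hqp hqG Q
  have hyN := h.not_mem_normalizer hqp Q hQN hk hyQ hyC
  have hpow : ∀ i : ℕ, 0 < i → i < p → y ^ i ∉ Subgroup.normalizer ((P : Subgroup G) : Set G) := by
    intro i hi hip hmem
    have hco : Nat.Coprime i (orderOf y) := by
      rw [hk]
      exact Nat.Coprime.pow_right k (Nat.coprime_of_lt_prime hi.ne' hip hp.out).symm
    obtain ⟨j, hj⟩ := exists_pow_eq_self_of_coprime hco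
    exact hyN (hj ▸ pow_mem hmem j)
  have hcomm : ∀ u ∈ (Q : Subgroup G), ∀ v ∈ (Q : Subgroup G), Commute u v := fun u hu v hv =>
    commute_of_isMulCommutative (h.hab _ (fun hd => by
      obtain ⟨l, hl⟩ := IsPGroup.iff_card.mp Q.isPGroup'
      rw [hl] at hd
      exact hqp ((Nat.prime_dvd_prime_iff_eq hp.out hqf.out).1 (hp.out.dvd_of_dvd_pow hd)).symm)) hu hv
  let T : Subgroup G :=
    { carrier := {u | u ∈ (Q : Subgroup G) ∧ u ^ q = 1}
      one_mem' := ⟨one_mem _, one_pow _⟩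
      mul_mem' := fun {u v} hu hv => ⟨mul_mem hu.1 hv.1, by
        rw [(hcomm u hu.1 v hv.1).mul_pow, hu.2, hv.2, one_mul]⟩
      inv_mem' := fun {u} hu => ⟨inv_mem hu.1, by rw [inv_pow, hu.2, inv_one]⟩ }
  have hTy : ∀ u ∈ T, y * u * y⁻¹ ∈ T := fun u hu =>
    ⟨(Subgroup.mem_normalizer_iff.1 hyQ u).1 hu.1, by rw [conj_pow, hu.2]; group⟩
  let N := Subgroup.normalizer ((P : Subgroup G) : Set G)
  let χ₁ : T →* MulAut (Subgroup.zpowers w) := h.chi.comp (Subgroup.inclusion (show T ≤ N from fun _ hu => hQN hu.1))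
  let c : T →* N := MonoidHom.codRestrict ((MulAut.conj y).toMonoidHom.comp T.subtype) N
    fun u => hQN (hTy u u.2).1
  let χ₂ : T →* MulAut (Subgroup.zpowers w) := h.chi.comp c
  have hinj : Function.Injective (χ₁.prod χ₂) := by
    refine (injective_iff_map_eq_one _).2 fun u hu => Subtype.ext ?_
    by_contra hu1
    have h1 : h.chi (Subgroup.inclusion (show T ≤ N from fun _ hu => hQN hu.1) u) = 1 := congrArg Prod.fst hu
    have h2 : h.chi (c u) = 1 := congrArg Prod.snd hu
    rw [h.chi_eq_one_iff] at h1 h2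
    exact hyN (h.mem_normalizer_of_conj (coprime_of_mem_sylow hqp Q u.2.1) h1 hu1 h2)
  classical
  have := Fintype.ofFinite (MulAut (Subgroup.zpowers w))
  let R : Finset (MulAut (Subgroup.zpowers w)) := Finset.univ.filter fun x => x ^ q = 1
  have hR : R.card ≤ q := by
    have := h.isCyclic_mulAut
    exact IsCyclic.card_pow_eq_one_le hqf.out.pos
  have hpowT : ∀ u : T, u ^ q = 1 := fun u => Subtype.ext u.2.2
  let F : T → R × R := fun u =>
    (⟨χ₁ u, Finset.mem_filter.2 ⟨Finset.mem_univ _, by rw [← map_pow, hpowT, map_one]⟩⟩,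
      ⟨χ₂ u, Finset.mem_filter.2 ⟨Finset.mem_univ _, by rw [← map_pow, hpowT, map_one]⟩⟩)
  have hT : Nat.card T ≤ q * q := by
    have hF : Function.Injective F := fun u v huv => hinj (Prod.ext
      (congrArg (fun t => (t.1 : MulAut (Subgroup.zpowers w))) huv)
      (congrArg (fun t => (t.2 : MulAut (Subgroup.zpowers w))) huv))
    refine (Nat.card_le_card_of_injective F hF).trans ?_
    rw [Nat.card_prod, Nat.card_eq_fintype_card, Fintype.card_coe]
    exact Nat.mul_le_mul hR hR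
  have hsucc : ∀ j : Fin (q - 1), (j : ℕ) + 1 < q := fun j => by have := j.2; omega
  have haT : a ∈ T := ⟨haQ, ha ▸ pow_orderOf_eq_one a⟩
  have hyT : ∀ (i : ℕ) (u : G), u ∈ T → y ^ i * u * (y ^ i)⁻¹ ∈ T := by
    intro i
    induction i with
    | zero => intro u hu; simpa using hu
    | succ i ih =>
      intro u hu
      have := hTy _ (ih u hu)
      simpa [pow_succ', mul_assoc] using this
  let E : Option (Fin p × Fin (q - 1)) → T := fun o => o.elim 1 fun ij =>
    ⟨y ^ (ij.1 : ℕ) * a ^ ((ij.2 : ℕ) + 1) * (y ^ (ij.1 : ℕ))⁻¹, hyT _ _ (pow_mem haT _)⟩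
  have hane : ∀ j : Fin (q - 1), a ^ ((j : ℕ) + 1) ≠ 1 :=
    fun j => pow_ne_one_of_lt_orderOf (Nat.succ_ne_zero _) (ha ▸ hsucc j)
  have hlt : ∀ (i i' : ℕ), i < i' → i' < p → ∀ j j' : Fin (q - 1),
      y ^ i * a ^ ((j : ℕ) + 1) * (y ^ i)⁻¹ ≠ y ^ i' * a ^ ((j' : ℕ) + 1) * (y ^ i')⁻¹ := by
    intro i i' hii' hi' j j' he
    obtain ⟨d, rfl⟩ := Nat.exists_eq_add_of_lt hii'
    refine hpow (d + 1) (Nat.succ_pos _) (by omega)
      (h.mem_normalizer_of_conj (u := a ^ ((j' : ℕ) + 1)) ?_ (pow_mem haC _) (hane j') ?_)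
    · exact Nat.Coprime.coprime_dvd_left (orderOf_pow_dvd _) haco
    · have e : y ^ (d + 1) * a ^ ((j' : ℕ) + 1) * (y ^ (d + 1))⁻¹ = a ^ ((j : ℕ) + 1) := by
        rw [add_assoc i d 1, pow_add y i] at he
        calc y ^ (d + 1) * a ^ ((j' : ℕ) + 1) * (y ^ (d + 1))⁻¹
            = (y ^ i)⁻¹ * (y ^ i * y ^ (d + 1) * a ^ ((j' : ℕ) + 1) * (y ^ i * y ^ (d + 1))⁻¹) * y ^ i := by
              group
          _ = (y ^ i)⁻¹ * (y ^ i * a ^ ((j : ℕ) + 1) * (y ^ i)⁻¹) * y ^ i := by rw [← he]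
          _ = a ^ ((j : ℕ) + 1) := by group
      rw [e]
      exact pow_mem haC _
  have hE : Function.Injective E := by
    rintro (_ | ⟨i, j⟩) (_ | ⟨i', j'⟩) he
    · rfl
    · exact absurd (conj_eq_one_iff.1 (congrArg Subtype.val he).symm) (hane j')
    · exact absurd (conj_eq_one_iff.1 (congrArg Subtype.val he)) (hane j)
    · have he' := congrArg Subtype.val he
      simp only [E, Option.elim_some] at he'
      rcases lt_trichotomy (i : ℕ) (i' : ℕ) with hlt' | heq | hgt
      · exact absurd he' (hlt _ _ hlt' i'.2 j j')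
      · have hii : i = i' := Fin.ext heq
        subst hii
        have := pow_injOn_Iio_orderOf (show ((j : ℕ) + 1) ∈ Set.Iio (orderOf a) from ha ▸ hsucc j)
          (show ((j' : ℕ) + 1) ∈ Set.Iio (orderOf a) from ha ▸ hsucc j')
          (by simpa using he')
        rw [Fin.ext (show (j : ℕ) = j' by omega)]
      · exact absurd he'.symm (hlt _ _ hgt i.2 j' j)
  have hlow := Nat.card_le_card_of_injective E hE
  rw [Finite.card_option, Nat.card_prod, Nat.card_fin, Nat.card_fin] at hlow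
  have hqd : q ∣ p - 1 := by
    rw [← h.card_mulAut]
    let u : T := ⟨a, haT⟩
    have hu2 : χ₂ u ≠ 1 := by
      intro he
      rw [show χ₂ u = h.chi (c u) from rfl, h.chi_eq_one_iff] at he
      exact hyN (h.mem_normalizer_of_conj haco haC ha1 he)
    have : orderOf (χ₂ u) = q :=
      orderOf_eq_prime (by rw [← map_pow, hpowT, map_one]) hu2
    exact this ▸ orderOf_dvd_natCard _
  have hp2 := hp.out.two_le
  have hq2 := hqf.out.two_le
  have hle : q ≤ p - 1 := Nat.le_of_dvd (by omega) hqd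
  have hpq : p = q + 1 := by
    by_contra hne
    have h1 : q + 2 ≤ p := by omega
    have h2 := Nat.mul_le_mul_right (q - 1) h1
    have h3 : (q + 2) * (q - 1) + 1 ≤ q * q := by omega
    obtain ⟨r, rfl⟩ : ∃ r, q = r + 2 := ⟨q - 2, by omega⟩
    simp only [show r + 2 - 1 = r + 1 by omega] at h3
    nlinarith
  have hq : q = 2 := by
    rcases hqf.out.eq_two_or_odd with h2 | hodd
    · exact h2
    · rcases hp.out.eq_two_or_odd with h2 | hodd' <;> omega
  refine ⟨y, hyQ, hyN, hq, by omega, fun u hu huo => ?_⟩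
  have hcard : Nat.card T = Nat.card (Option (Fin p × Fin (q - 1))) := by
    rw [Finite.card_option, Nat.card_prod, Nat.card_fin, Nat.card_fin]
    subst hq
    omega
  have hsurj : Function.Bijective E :=
    (Nat.bijective_iff_injective_and_card E).2 ⟨hE, hcard.symm⟩
  obtain ⟨o, ho⟩ := hsurj.2 ⟨u, hu, by rw [hq, ← huo, pow_orderOf_eq_one]⟩
  rcases o with _ | ⟨i, j⟩
  · have : u = 1 := (congrArg Subtype.val ho).symm
    rw [this, orderOf_one] at huo
    exact absurd huo (by norm_num)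
  · refine ⟨y ^ (i : ℕ), ?_⟩
    have := congrArg Subtype.val ho
    simp only [E, Option.elim_some] at this
    rw [show (j : ℕ) = 0 by have := j.2; omega, pow_one] at this
    exact this

end

end CfsgLib.CyclicSylow
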