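import Cfsg.Agent.CyclicSylow.Count

/-!
Cyclic Sylow `p`-subgroup and abelian `p'`-subgroups: a normal `p`-complement or a normal Sylow subgroup.
-/

namespace CfsgLib.CyclicSylow

open CfsgLib.Transfer

universe u

section
variable {p : ℕ} {G : Type*} [Group G] [Finite G] [hp : Fact p.Prime]

omit hp [Finite G] in
theorem eq_of_card_two {M : Type*} [Group M] [Finite M] (hM : Nat.card M = 2) {a b : M} (ha : a ≠ 1) (hb : b ≠ 1) :
    a = b := by
  obtain ⟨c, -, huniv⟩ := (Nat.card_eq_two_iff' (1 : M)).1 hM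
  exact (huniv a ha).trans (huniv b hb).symm

variable {P : Sylow p G} {w : G} (h : Config P w)
include h

theorem Config.exists_involution :
    ∃ a : G, orderOf a = 2 ∧ p = 3 ∧ a ∈ Subgroup.centralizer ((P : Subgroup G) : Set G) ∧
      (∀ c : G, (orderOf c).Coprime p → c ∈ Subgroup.centralizer ((P : Subgroup G) : Set G) → c ≠ 1 →
        c = a) ∧
      (∀ t : G, orderOf t = 2 → ∃ g : G, g * a * g⁻¹ = t) ∧
      (∃ s : G, orderOf s = 2 ∧ s ∈ Subgroup.normalizer ((P : Subgroup G) : Set G) ∧
        s ∉ Subgroup.centralizer ((P : Subgroup G) : Set G)) := by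
  have hex : ∃ a : G, (orderOf a).Coprime p ∧ a ∈ Subgroup.centralizer ((P : Subgroup G) : Set G) ∧ a ≠ 1 := by
    by_contra hcon
    push Not at hcon
    exact h.exists_free_or_prime hcon
  have main : ∀ q : ℕ, ∀ _ : Fact q.Prime, q ≠ p → ∀ a : G, orderOf a = q →
      a ∈ Subgroup.centralizer ((P : Subgroup G) : Set G) → q = 2 ∧ p = 3 := by
    intro q hqf hqp a ha haC
    obtain ⟨Q, hQ⟩ := (IsPGroup.of_card (p := q) (n := 1) (G := Subgroup.zpowers a)
      (by rw [Nat.card_zpowers, ha, pow_one])).exists_le_sylow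
    obtain ⟨y, -, -, hq, hp3, -⟩ := h.torsion_bound hqp ha haC Q (hQ (Subgroup.mem_zpowers a))
    exact ⟨hq, hp3⟩
  obtain ⟨a₀, ha₀, ha₀C, ha₀1⟩ := hex
  obtain ⟨q, hq, hqd⟩ := Nat.exists_prime_and_dvd (mt orderOf_eq_one_iff.1 ha₀1)
  have hne : q ≠ p := fun e => not_dvd_of_coprime ha₀ (e ▸ hqd)
  set a := a₀ ^ (orderOf a₀ / q) with ha_def
  have hao : orderOf a = q := by
    rw [ha_def, orderOf_pow_of_dvd (Nat.div_pos (Nat.le_of_dvd (orderOf_pos a₀) hqd) hq.pos).ne'
      (Nat.div_dvd_of_dvd hqd), Nat.div_div_self hqd (orderOf_pos a₀).ne']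
  have haC : a ∈ Subgroup.centralizer ((P : Subgroup G) : Set G) := pow_mem ha₀C _
  obtain ⟨hq2, hp3⟩ := main q ⟨hq⟩ hne a hao haC
  rw [hq2] at hao
  have hne2 : (2 : ℕ) ≠ p := by omega
  have ha1 : a ≠ 1 := fun h1 => by rw [h1, orderOf_one] at hao; omega
  have hmul : Nat.card (MulAut (Subgroup.zpowers w)) = 2 := by rw [h.card_mulAut, hp3]
  have hsylow : ∀ Q : Sylow 2 G, a ∈ (Q : Subgroup G) → ∀ u ∈ (Q : Subgroup G),
      u ∈ Subgroup.centralizer ((P : Subgroup G) : Set G) → u ≠ 1 → u = a := by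
    intro Q haQ u hu huC hu1
    obtain ⟨y, hyQ, hyN, -⟩ := h.torsion_bound hne2 hao haC Q haQ
    have hQN := h.sylow_le_normalizer hne2 Q haQ ha1 haC
    have hm : ∀ v ∈ (Q : Subgroup G), y * v * y⁻¹ ∈ Subgroup.normalizer ((P : Subgroup G) : Set G) :=
      fun v hv => hQN ((Subgroup.mem_normalizer_iff.1 hyQ v).1 hv)
    have hne1 : ∀ (v : G) (hv : v ∈ (Q : Subgroup G)), v ∈ Subgroup.centralizer ((P : Subgroup G) : Set G) →
        v ≠ 1 → h.chi ⟨y * v * y⁻¹, hm v hv⟩ ≠ 1 := fun v hv hvC hv1 he =>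
      hyN (h.mem_normalizer_of_conj (coprime_of_mem_sylow hne2 Q hv) hvC hv1 ((h.chi_eq_one_iff _).1 he))
    by_contra hua
    have hz : u * a⁻¹ ≠ 1 := fun e => hua (mul_inv_eq_one.1 e)
    apply hne1 (u * a⁻¹) (mul_mem hu (inv_mem haQ)) (mul_mem huC (inv_mem haC)) hz
    rw [show (⟨y * (u * a⁻¹) * y⁻¹, hm _ (mul_mem hu (inv_mem haQ))⟩ :
        Subgroup.normalizer ((P : Subgroup G) : Set G)) = ⟨y * u * y⁻¹, hm u hu⟩ * ⟨y * a * y⁻¹, hm a haQ⟩⁻¹
        from Subtype.ext (by simp [mul_assoc]), map_mul, map_inv,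
      eq_of_card_two hmul (hne1 u hu huC hu1) (hne1 a haQ haC ha1), mul_inv_cancel]
  refine ⟨a, hao, hp3, haC, ?_, ?_, ?_⟩
  · intro c hc hcC hc1
    have hc2 : IsPGroup 2 (Subgroup.zpowers c) := by
      have hpr : ∀ r : ℕ, r.Prime → r ∣ orderOf c → r = 2 := by
        intro r hr hrd
        have hrp : r ≠ p := fun e => not_dvd_of_coprime hc (e ▸ hrd)
        refine (main r ⟨hr⟩ hrp (c ^ (orderOf c / r)) ?_ (pow_mem hcC _)).1
        rw [orderOf_pow_of_dvd (Nat.div_pos (Nat.le_of_dvd (orderOf_pos c) hrd) hr.pos).ne'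
          (Nat.div_dvd_of_dvd hrd), Nat.div_div_self hrd (orderOf_pos c).ne']
      refine IsPGroup.of_card (n := (orderOf c).primeFactorsList.length) ?_
      rw [Nat.card_zpowers]
      exact Nat.eq_prime_pow_of_unique_prime_dvd (orderOf_pos c).ne' (fun hr hrd => hpr _ hr hrd)
    have hca : Commute c a := h.commute_normalizer hc hcC (Subgroup.centralizer_le_normalizer _ haC)
    have hsup : IsPGroup 2 (Subgroup.zpowers a ⊔ Subgroup.zpowers c : Subgroup G) := by
      refine (IsPGroup.of_card (n := 1) (by rw [Nat.card_zpowers, hao, pow_one])).to_sup_of_normal_left' hc2 ?_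
      refine Subgroup.zpowers_le.2 (Subgroup.centralizer_le_normalizer _ ?_)
      refine Subgroup.mem_centralizer_iff.2 fun v hv => ?_
      obtain ⟨i, rfl⟩ := Subgroup.mem_zpowers_iff.1 hv
      exact (hca.zpow_right i).eq.symm
    obtain ⟨Q, hQ⟩ := hsup.exists_le_sylow
    exact hsylow Q (hQ (Subgroup.mem_sup_left (Subgroup.mem_zpowers a))) c
      (hQ (Subgroup.mem_sup_right (Subgroup.mem_zpowers c))) hcC hc1
  · intro t ht
    obtain ⟨Q₁, hQ₁⟩ := (IsPGroup.of_card (p := 2) (n := 1) (G := Subgroup.zpowers a)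
      (by rw [Nat.card_zpowers, hao, pow_one])).exists_le_sylow
    obtain ⟨y, -, -, -, -, hconj⟩ := h.torsion_bound hne2 hao haC Q₁ (hQ₁ (Subgroup.mem_zpowers a))
    obtain ⟨g, hg⟩ := exists_conj_mem_sylow Q₁ (k := 1) (by rw [ht, pow_one] : orderOf t = 2 ^ 1)
    obtain ⟨g', hg'⟩ := hconj _ hg (by rw [orderOf_conj']; exact ht)
    exact ⟨g⁻¹ * g', by
      calc g⁻¹ * g' * a * (g⁻¹ * g')⁻¹ = g⁻¹ * (g' * a * g'⁻¹) * g := by group
        _ = t := by rw [hg']; group⟩
  · obtain ⟨Q₁, hQ₁⟩ := (IsPGroup.of_card (p := 2) (n := 1) (G := Subgroup.zpowers a)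
      (by rw [Nat.card_zpowers, hao, pow_one])).exists_le_sylow
    have haQ := hQ₁ (Subgroup.mem_zpowers a)
    obtain ⟨y, hyQ, hyN, -⟩ := h.torsion_bound hne2 hao haC Q₁ haQ
    refine ⟨y * a * y⁻¹, by rw [orderOf_conj']; exact hao,
      h.sylow_le_normalizer hne2 Q₁ haQ ha1 haC ((Subgroup.mem_normalizer_iff.1 hyQ a).1 haQ), fun hC => ?_⟩
    exact hyN (h.mem_normalizer_of_conj (coprime_of_mem_sylow hne2 Q₁ haQ) haC ha1 hC)

theorem Config.impossible : False := by
  obtain ⟨a, ha, hp3, haC, huniqC, hconj, s, hs, hsN, hsC⟩ := h.exists_involution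
  have ha1 : a ≠ 1 := fun h1 => by rw [h1, orderOf_one] at ha; omega
  have hco2 : ∀ x : G, orderOf x = 2 → (orderOf x).Coprime p := fun x hx => by rw [hx, hp3]; norm_num
  have hne1 : ∀ x : G, orderOf x = 2 → x ≠ 1 := fun x hx h1 => by rw [h1, orderOf_one] at hx; omega
  have hsq : ∀ x : G, orderOf x = 2 → x * x = 1 := fun x hx => by rw [← pow_two, ← hx, pow_orderOf_eq_one]
  have hmul : Nat.card (MulAut (Subgroup.zpowers w)) = 2 := by rw [h.card_mulAut, hp3]
  set N := Subgroup.normalizer ((P : Subgroup G) : Set G) with hNdef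
  have hCN : ∀ x : G, Commute a x → x ∈ N := fun x hx => h.hcent a ha1 (hco2 a ha) haC x hx
  have hNC : ∀ x ∈ N, Commute a x := fun x hx => h.commute_normalizer (hco2 a ha) haC hx
  have hout : ∀ x : G, orderOf x = 2 → x ∈ N → x ≠ a →
      x ∉ Subgroup.centralizer ((P : Subgroup G) : Set G) :=
    fun x hx _ hxa hxC => hxa (huniqC x (hco2 x hx) hxC (hne1 x hx))
  have hcomm2 : ∀ x y : G, orderOf x = 2 → orderOf y = 2 → Commute x y → x ≠ y → orderOf (x * y) = 2 := by
    intro x y hx hy hxy hne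
    refine orderOf_eq_prime ?_ ?_
    · rw [hxy.mul_pow, pow_two, pow_two, hsq x hx, hsq y hy, one_mul]
    · intro e
      exact hne (mul_left_injective y (show x * y = y * y by rw [e, hsq y hy]))
  let V := {x : G // orderOf x = 2}
  have : Nonempty V := ⟨⟨a, ha⟩⟩
  let R : V → V → Prop := fun x y => x ≠ y ∧ Commute (x : G) y
  have horb : ∀ x : V, ∃ g : G, g * a * g⁻¹ = x := fun x => hconj x x.2
  let cV : G → V → V := fun g x => ⟨g * x * g⁻¹, by rw [orderOf_conj']; exact x.2⟩
  have hcinj : ∀ g, Function.Bijective (cV g) := fun g =>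
    Function.bijective_iff_has_inverse.2 ⟨cV g⁻¹, fun x => Subtype.ext (by simp [cV, mul_assoc]),
      fun x => Subtype.ext (by simp [cV, mul_assoc])⟩
  have hcR : ∀ g x y, R x y → R (cV g x) (cV g y) := fun g x y hxy =>
    ⟨fun e => hxy.1 ((hcinj g).1 e), commute_conj g hxy.2⟩
  have hcR' : ∀ g x y, R (cV g x) (cV g y) → R x y := by
    intro g x y hxy
    have := hcR g⁻¹ _ _ hxy
    rwa [show cV g⁻¹ (cV g x) = x from Subtype.ext (by simp [cV, mul_assoc]),
      show cV g⁻¹ (cV g y) = y from Subtype.ext (by simp [cV, mul_assoc])] at this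
  let A : V := ⟨a, ha⟩
  refine not_regular_friendship R (fun x y hxy => ⟨hxy.1.symm, hxy.2.symm⟩) (fun x hx => hx.1 rfl)
    (d := Nat.card {y // R A y}) ?_ ?_ ?_
  · have hws : Commute a s := hNC s hsN
    have hsa : s ≠ a := fun e => hsC (e ▸ haC)
    have has : orderOf (a * s) = 2 := hcomm2 a s ha hs hws hsa.symm
    have hwN : w ∈ N := Subgroup.le_normalizer h.hw
    have hwsN : w * s * w⁻¹ ∈ N := mul_mem (mul_mem hwN hsN) (inv_mem hwN)
    have e1 : a * s ≠ a := fun e => hne1 s hs (mul_eq_left.1 e)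
    have e2 : w * s * w⁻¹ ≠ a := fun e => hsa (by
      calc s = w⁻¹ * (w * s * w⁻¹) * w := by group
        _ = w⁻¹ * (a * w) := by rw [e]; group
        _ = a := by rw [(hNC w hwN).eq]; group)
    have e3 : w * s * w⁻¹ ≠ s := fun e => by
      have hcw : Commute s w := (mul_inv_eq_iff_eq_mul.1 e).symm
      exact hsC (h.mem_centralizer_of_commute h.hw h.w_ne_one hcw (hco2 s hs))
    have e4 : w * s * w⁻¹ ≠ a * s := fun e => by
      have hmem : w * (s * w⁻¹ * s⁻¹) ∈ (P : Subgroup G) :=
        mul_mem h.hw ((Subgroup.mem_normalizer_iff.1 hsN _).1 (inv_mem h.hw))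
      rw [show w * (s * w⁻¹ * s⁻¹) = (w * s * w⁻¹) * s⁻¹ by group, e, mul_inv_cancel_right] at hmem
      exact ha1 (eq_one_of_mem_sylow P (hco2 a ha) hmem)
    have e5 : a * s ≠ s := fun e => ha1 (mul_eq_right.1 e)
    let f : Fin 3 → {y // R A y} :=
      ![⟨⟨s, hs⟩, fun e => hsa (congrArg Subtype.val e).symm, hws⟩,
        ⟨⟨a * s, has⟩, fun e => e1 (congrArg Subtype.val e).symm, (Commute.refl a).mul_right hws⟩,
        ⟨⟨w * s * w⁻¹, by rw [orderOf_conj']; exact hs⟩, fun e => e2 (congrArg Subtype.val e).symm,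
          hNC _ hwsN⟩]
    have hf : Function.Injective f := by
      intro i j hij
      have := congrArg (fun t : {y // R A y} => ((t : V) : G)) hij
      fin_cases i <;> fin_cases j <;> first
        | rfl
        | exact absurd this e5
        | exact absurd this e5.symm
        | exact absurd this e3
        | exact absurd this e3.symm
        | exact absurd this e4
        | exact absurd this e4.symm
    have := Nat.card_le_card_of_injective f hf
    rwa [Nat.card_fin] at this
  · intro x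
    obtain ⟨g, hg⟩ := horb x
    have hx : cV g A = x := Subtype.ext hg
    refine (Nat.card_congr (Equiv.subtypeEquiv (Equiv.ofBijective _ (hcinj g)) fun y => ?_)).symm
    show R A y ↔ R x (cV g y)
    rw [← hx]
    exact ⟨hcR g A y, hcR' g A y⟩
  · suffices hA : ∀ u : V, A ≠ u → ∃! z, R A z ∧ R z u by
      intro x y hxy
      obtain ⟨g, hg⟩ := horb x
      obtain ⟨u, rfl⟩ := (hcinj g).2 y
      have hx : cV g A = x := Subtype.ext hg
      subst hx
      obtain ⟨z, hz, hzu⟩ := hA u (fun e => hxy (by rw [e]))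
      refine ⟨cV g z, ⟨hcR g _ _ hz.1, hcR g _ _ hz.2⟩, fun b hb => ?_⟩
      obtain ⟨b', rfl⟩ := (hcinj g).2 b
      rw [hzu b' ⟨hcR' g _ _ hb.1, hcR' g _ _ hb.2⟩]
    rintro ⟨u, hu⟩ hAu
    have hua : u ≠ a := fun e => hAu (Subtype.ext e.symm)
    by_cases hcu : Commute a u
    · have hau := hcomm2 a u ha hu hcu hua.symm
      have hA1 : a * u ≠ a := fun e => hne1 u hu (mul_eq_left.1 e)
      have hu1 : a * u ≠ u := fun e => ha1 (mul_eq_right.1 e)
      refine ⟨⟨a * u, hau⟩, ⟨⟨fun e => hA1 (congrArg Subtype.val e).symm, (Commute.refl a).mul_right hcu⟩,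
        fun e => hu1 (congrArg Subtype.val e), hcu.mul_left (Commute.refl u)⟩, ?_⟩
      rintro ⟨z, hz⟩ ⟨⟨hzA, hza⟩, hzu', hzu⟩
      have hza1 : z ≠ a := fun e => hzA (Subtype.ext e.symm)
      have hzu1 : z ≠ u := fun e => hzu' (Subtype.ext e)
      have hz_ne : ∀ (x : G) (hx : x ∈ N), orderOf x = 2 → x ≠ a → h.chi ⟨x, hx⟩ ≠ 1 :=
        fun x hx hxo hxa he => hout x hxo hx hxa ((h.chi_eq_one_iff _).1 he)
      have hC : z * u ∈ Subgroup.centralizer ((P : Subgroup G) : Set G) := by
        have he := eq_of_card_two hmul (hz_ne z (hCN z hza) hz hza1) (hz_ne u (hCN u hcu) hu hua)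
        refine (h.chi_eq_one_iff ⟨z * u, mul_mem (hCN z hza) (hCN u hcu)⟩).1 ?_
        rw [show (⟨z * u, mul_mem (hCN z hza) (hCN u hcu)⟩ : N) = ⟨z, hCN z hza⟩ * ⟨u, hCN u hcu⟩ from rfl,
          map_mul, he, ← map_mul, show (⟨u, hCN u hcu⟩ : N) * ⟨u, hCN u hcu⟩ = 1 from Subtype.ext (hsq u hu),
          map_one]
      have hzuo := hcomm2 z u hz hu hzu hzu1
      have := huniqC _ (hco2 _ hzuo) hC (hne1 _ hzuo)
      refine Subtype.ext ?_
      show z = a * u
      rw [← this, mul_assoc, hsq u hu, mul_one]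
    · set x := a * u with hx
      have hxinv : a * x * a⁻¹ = x⁻¹ := by
        rw [hx, mul_inv_rev, inv_eq_of_mul_eq_one_right (hsq u hu),
          inv_eq_of_mul_eq_one_right (hsq a ha), ← mul_assoc, hsq a ha, one_mul]
      have hxinv' : u * x * u⁻¹ = x⁻¹ := by
        rw [hx, mul_inv_rev, inv_eq_of_mul_eq_one_right (hsq u hu),
          inv_eq_of_mul_eq_one_right (hsq a ha)]
        rw [show u * (a * u) * u = u * a * (u * u) by group, hsq u hu, mul_one]
      have hnorm : ∀ t v : G, orderOf t = 2 → t * v * t⁻¹ = v⁻¹ →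
          t ∈ Subgroup.normalizer ((Subgroup.zpowers v : Subgroup G) : Set G) := by
        intro t v ht htv
        have key : ∀ c ∈ Subgroup.zpowers v, t * c * t⁻¹ ∈ Subgroup.zpowers v := by
          intro c hc
          obtain ⟨i, rfl⟩ := Subgroup.mem_zpowers_iff.1 hc
          rw [← conj_zpow, htv]
          exact zpow_mem (inv_mem (Subgroup.mem_zpowers v)) i
        refine Subgroup.mem_normalizer_iff.2 fun c => ⟨key c, fun hc => ?_⟩
        have := key _ hc
        rwa [show t * (t * c * t⁻¹) * t⁻¹ = (t * t) * c * (t * t)⁻¹ by group, hsq t ht, inv_one, one_mul,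
          mul_one] at this
      have h3 : 3 ∣ orderOf x := by
        by_contra hnd
        have hZ : ¬ p ∣ Nat.card (Subgroup.zpowers x) := by rw [Nat.card_zpowers, hp3]; exact hnd
        have hc := h.hab.commute hZ (hnorm a x ha hxinv) (hco2 a ha) (Subgroup.mem_zpowers x)
        refine hcu (?_ : Commute a u)
        have : Commute a (a⁻¹ * x) := (Commute.refl a).inv_right.mul_right hc
        rwa [hx, inv_mul_cancel_left] at this
      set z := x ^ (orderOf x / 3) with hz
      have hzo : orderOf z = p := by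
        rw [hz, orderOf_pow_of_dvd (Nat.div_pos (Nat.le_of_dvd (orderOf_pos x) h3) (by norm_num)).ne'
          (Nat.div_dvd_of_dvd h3), Nat.div_div_self h3 (orderOf_pos x).ne', hp3]
      have hzz : z ≠ z⁻¹ := fun e => by
        have h1 : z ^ 2 = 1 := by rw [pow_two]; nth_rw 2 [e]; rw [mul_inv_cancel]
        have := orderOf_dvd_of_pow_eq_one h1
        rw [hzo, hp3] at this
        omega
      obtain ⟨g, hg⟩ := exists_conj_mem_sylow P (k := 1) (by rw [hzo, pow_one] : orderOf z = p ^ 1)
      have hgz1 : g * z * g⁻¹ ≠ 1 := fun e => hzz (by rw [conj_eq_one_iff.1 e, inv_one])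
      have hwz : Subgroup.zpowers (g * z * g⁻¹) = Subgroup.zpowers w := by
        refine Subgroup.eq_of_le_of_card_ge (Subgroup.zpowers_le.2
          (mem_zpowers_of_orderOf P h.hc hg h.hw (by rw [orderOf_conj']; exact hzo) h.w_ne_one)) (le_of_eq ?_)
        rw [Nat.card_zpowers, Nat.card_zpowers, orderOf_conj', hzo, h.hwo]
      have hframe : ∀ t : G, orderOf t = 2 → t * x * t⁻¹ = x⁻¹ →
          g * t * g⁻¹ ∈ N ∧ ¬ Commute (g * t * g⁻¹) (g * z * g⁻¹) := by
        intro t ht htx
        have htz : t * z * t⁻¹ = z⁻¹ := by rw [hz, ← conj_pow, htx, inv_pow]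
        have htz' : (g * t * g⁻¹) * (g * z * g⁻¹) * (g * t * g⁻¹)⁻¹ = (g * z * g⁻¹)⁻¹ := by
          calc (g * t * g⁻¹) * (g * z * g⁻¹) * (g * t * g⁻¹)⁻¹ = g * (t * z * t⁻¹) * g⁻¹ := by group
            _ = (g * z * g⁻¹)⁻¹ := by rw [htz]; group
        refine ⟨h.hw_cent _ (hwz ▸ hnorm _ _ (by rw [orderOf_conj']; exact ht) htz'), fun hc => hzz ?_⟩
        rw [hc.eq, mul_inv_cancel_right] at htz'
        calc z = g⁻¹ * (g * z * g⁻¹) * g := by group
          _ = g⁻¹ * (g * z * g⁻¹)⁻¹ * g := by rw [← htz']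
          _ = z⁻¹ := by group
      obtain ⟨haN, haz⟩ := hframe a ha hxinv
      obtain ⟨huN, huz⟩ := hframe u hu hxinv'
      have hmo : orderOf (g⁻¹ * a * g) = 2 := by
        rw [show g⁻¹ * a * g = g⁻¹ * a * g⁻¹⁻¹ by group, orderOf_conj']; exact ha
      have haz' : Commute a (g * z * g⁻¹) := (Subgroup.mem_centralizer_iff.1 haC _ hg).symm
      have hback : ∀ t : G, g * t * g⁻¹ ∈ N → Commute (g⁻¹ * a * g) t := fun t ht => by
        have := commute_conj g⁻¹ (hNC _ ht)
        simpa [mul_assoc] using this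
      refine ⟨⟨g⁻¹ * a * g, hmo⟩, ⟨⟨fun e => haz ?_, (hback a haN).symm⟩, fun e => huz ?_,
        hback u huN⟩, ?_⟩
      · have e' : a = g⁻¹ * a * g := congrArg Subtype.val e
        rw [show g * a * g⁻¹ = a by
          calc g * a * g⁻¹ = g * (g⁻¹ * a * g) * g⁻¹ := by rw [← e']
            _ = a := by group]
        exact haz'
      · have e' : g⁻¹ * a * g = u := congrArg Subtype.val e
        rw [show g * u * g⁻¹ = a by rw [← e']; group]
        exact haz'
      · rintro ⟨m, hm⟩ ⟨⟨-, hma⟩, -, hmu⟩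
        have hmz : Commute m z := (hma.symm.mul_right hmu).pow_right _
        have := huniqC (g * m * g⁻¹) (by rw [orderOf_conj']; exact hco2 m hm)
          (h.mem_centralizer_of_commute hg hgz1 (commute_conj g hmz) (by rw [orderOf_conj']; exact hco2 m hm))
          (fun e => hne1 m hm (conj_eq_one_iff.1 e))
        refine Subtype.ext ?_
        show m = g⁻¹ * a * g
        rw [← this]; group

end

theorem le_normalizer_of_mem {p : ℕ} {G : Type u} [Group G] [Finite G] [Fact p.Prime] (hab : AbelianPPrime p G)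
    (P : Sylow p G) (hc : IsCyclic P) (X : Subgroup G) (hPX : (P : Subgroup G) ≤ X) {b : G} (hb : b ∈ X)
    (hbN : b ∈ Subgroup.normalizer ((P : Subgroup G) : Set G)) (hbo : (orderOf b).Coprime p)
    (hbC : b ∉ Subgroup.centralizer ((P : Subgroup G) : Set G))
    (ih : Cfsg.HasNormalPComplement p X ∨ ((P.subtype hPX : Sylow p X) : Subgroup X).Normal) :
    X ≤ Subgroup.normalizer ((P : Subgroup G) : Set G) := by
  rcases ih with hcomp | hn
  · exfalso
    set R := Cfsg.pResidual p X with hR
    have hbR : (⟨b, hb⟩ : X) ∈ R := mem_pResidual_of_coprime (by rwa [Subgroup.orderOf_mk])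
    refine hbC (Subgroup.mem_centralizer_iff.2 fun x hx => ?_)
    set c : X := ⟨x, hPX hx⟩ * ⟨b, hb⟩ * ⟨x, hPX hx⟩⁻¹ * ⟨b, hb⟩⁻¹ with hc
    have hcR : c ∈ R := mul_mem ((pResidual_normal (p := p) (G := X)).conj_mem _ hbR _) (inv_mem hbR)
    have hcP : (c : G) ∈ (P : Subgroup G) := by
      show x * b * x⁻¹ * b⁻¹ ∈ (P : Subgroup G)
      rw [show x * b * x⁻¹ * b⁻¹ = x * (b * x⁻¹ * b⁻¹) by group]
      exact mul_mem hx ((Subgroup.mem_normalizer_iff.1 hbN _).1 (inv_mem hx))
    have hone : c = 1 := by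
      have := (hasNormalPComplement_iff_inf (P.subtype hPX)).1 hcomp
      exact Subgroup.mem_bot.1 (this ▸ ⟨hcR, Subgroup.mem_subgroupOf.2 hcP⟩)
    have h1 : x * b * x⁻¹ * b⁻¹ = 1 := congrArg Subtype.val hone
    rwa [mul_inv_eq_one, mul_inv_eq_iff_eq_mul] at h1
  · intro g hg
    refine Subgroup.mem_normalizer_iff.2 fun x => ⟨fun hx => ?_, fun hx => ?_⟩
    · exact Subgroup.mem_subgroupOf.1 (hn.conj_mem ⟨x, hPX hx⟩ (Subgroup.mem_subgroupOf.2 hx) ⟨g, hg⟩)
    · have hxX : x ∈ X := by
        have := mul_mem (mul_mem (inv_mem hg) (hPX hx)) hg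
        simpa [mul_assoc] using this
      have := Subgroup.mem_subgroupOf.1
        (hn.conj_mem ⟨g * x * g⁻¹, hPX hx⟩ (Subgroup.mem_subgroupOf.2 hx) ⟨g⁻¹, inv_mem hg⟩)
      simpa [mul_assoc] using this

theorem dichotomy {p : ℕ} [hp : Fact p.Prime] : ∀ (n : ℕ) {G : Type u} [Group G] [Finite G], Nat.card G ≤ n →
    ∀ P : Sylow p G, IsCyclic P → AbelianPPrime p G →
      Cfsg.HasNormalPComplement p G ∨ (P : Subgroup G).Normal := by
  intro n
  induction n with
  | zero =>
    intro G _ _ hn
    exact absurd hn (by have := Nat.card_pos (α := G); omega)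
  | succ n ih =>
    intro G _ _ hn P hc hab
    by_cases hnc : Subgroup.normalizer ((P : Subgroup G) : Set G) ≤ Subgroup.centralizer ((P : Subgroup G) : Set G)
    · exact Or.inl ⟨P, _, inferInstance, MonoidHom.ker_transferSylow_isComplement' P hnc⟩
    refine Or.inr ?_
    by_contra hPn
    have hsub : ∀ (X : Subgroup G) (hPX : (P : Subgroup G) ≤ X), X ≠ ⊤ →
        Cfsg.HasNormalPComplement p X ∨ ((P.subtype hPX : Sylow p X) : Subgroup X).Normal := by
      intro X hPX hX
      refine ih ?_ _ ?_ (hab.subgroup X)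
      · have hlt : Nat.card X < Nat.card G := by
          refine lt_of_le_of_ne (Subgroup.card_le_card_group X) fun e => hX (Subgroup.eq_top_of_card_eq X e)
        omega
      · exact isCyclic_of_surjective (Subgroup.subgroupOfEquivOfLe hPX).symm.toMonoidHom
          (Subgroup.subgroupOfEquivOfLe hPX).symm.surjective
    have hnormal : ∀ M : Subgroup G, M.Normal → M ≠ ⊤ → ¬ (P : Subgroup G) ≤ M := by
      intro M hMn hM hPM
      rcases hsub M hPM hM with hcomp | hn
      · set K := (Cfsg.pResidual p M).map M.subtype with hKdef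
        have hKn : K.Normal := by
          have := pResidual_characteristic (p := p) (G := M)
          rw [hKdef]; infer_instance
        refine hPn (normal_of_sup_normal P hab hc hnc K ?_ ?_)
        · rw [hKdef, Subgroup.card_map_of_injective M.subtype_injective]
          exact hasNormalPComplement_iff.1 hcomp
        · have e : (P : Subgroup G) ⊔ K = M := by
            have h1 := congrArg (Subgroup.map M.subtype) (pResidual_sup_sylow (P.subtype hPM))
            rw [Subgroup.map_sup, Sylow.coe_subtype, Subgroup.map_subgroupOf_eq_of_le hPM,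
              ← MonoidHom.range_eq_map, Subgroup.range_subtype, ← hKdef, sup_comm] at h1
            exact h1
          rw [e]; exact hMn
      · refine hPn (normal_of_normal_le P M hPM fun g hg => ?_)
        refine Subgroup.mem_normalizer_iff.2 fun x => ⟨fun hx => ?_, fun hx => ?_⟩
        · exact Subgroup.mem_subgroupOf.1 (hn.conj_mem ⟨x, hPM hx⟩ (Subgroup.mem_subgroupOf.2 hx) ⟨g, hg⟩)
        · have hxM : x ∈ M := by
            have := mul_mem (mul_mem (inv_mem hg) (hPM hx)) hg
            simpa [mul_assoc] using this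
          have := Subgroup.mem_subgroupOf.1
            (hn.conj_mem ⟨g * x * g⁻¹, hPM hx⟩ (Subgroup.mem_subgroupOf.2 hx) ⟨g⁻¹, inv_mem hg⟩)
          simpa [mul_assoc] using this
    obtain ⟨b₀, hbN, hbo, hbC⟩ := exists_moving P hc hnc
    have hPne : Nontrivial P := by
      by_contra hh
      rw [not_nontrivial_iff_subsingleton] at hh
      refine hnc fun g _ => Subgroup.mem_centralizer_iff.2 fun x hx => ?_
      have : x = 1 := congrArg Subtype.val (Subsingleton.elim (⟨x, hx⟩ : P) 1)
      rw [this, one_mul, mul_one]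
    obtain ⟨⟨w, hw⟩, hwo⟩ := exists_prime_orderOf_dvd_card' p
      (P.isPGroup'.card_eq_or_dvd.resolve_left (Finite.one_lt_card (α := P)).ne')
    rw [Subgroup.orderOf_mk] at hwo
    have hw1 : w ≠ 1 := fun e => by rw [e, orderOf_one] at hwo; exact hp.out.ne_one hwo.symm
    have hbw : b₀ ∈ Subgroup.normalizer ((Subgroup.zpowers w : Subgroup G) : Set G) := by
      have key : ∀ g ∈ Subgroup.normalizer ((P : Subgroup G) : Set G), ∀ x ∈ Subgroup.zpowers w,
          g * x * g⁻¹ ∈ Subgroup.zpowers w := by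
        intro g hg x hx
        obtain ⟨i, rfl⟩ := Subgroup.mem_zpowers_iff.1 hx
        rw [← conj_zpow]
        exact zpow_mem (mem_zpowers_of_orderOf P hc ((Subgroup.mem_normalizer_iff.1 hg w).1 hw) hw
          (by rw [orderOf_conj']; exact hwo) hw1) i
      refine Subgroup.mem_normalizer_iff.2 fun x => ⟨key b₀ hbN x, fun hx => ?_⟩
      have := key b₀⁻¹ (inv_mem hbN) _ hx
      simpa [mul_assoc] using this
    have hPw : (P : Subgroup G) ≤ Subgroup.normalizer ((Subgroup.zpowers w : Subgroup G) : Set G) :=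
      (le_centralizer P hc).trans ((Subgroup.centralizer_le (Subgroup.zpowers_le.2 hw)).trans
        (Subgroup.centralizer_le_normalizer _))
    have hwtop : Subgroup.normalizer ((Subgroup.zpowers w : Subgroup G) : Set G) ≠ ⊤ := by
      intro htop
      have hWn : (Subgroup.zpowers w).Normal := Subgroup.normalizer_eq_top_iff.1 htop
      refine hnormal (Subgroup.centralizer (Subgroup.zpowers w : Set G)) inferInstance (fun hC => hbC ?_)
        ((le_centralizer P hc).trans (Subgroup.centralizer_le (Subgroup.zpowers_le.2 hw)))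
      exact mem_centralizer_of_fixes P hc hbN hbo hw hw1
        (Subgroup.mem_centralizer_iff.1 (hC ▸ Subgroup.mem_top b₀) w (Subgroup.mem_zpowers w)).symm
    refine Config.impossible (P := P) (w := w) ⟨hab, hc, hnc, hw, hwo, ?_, ?_, ?_⟩
    · exact fun g hg => le_normalizer_of_mem hab P hc _ hPw hbw hbN hbo hbC (hsub _ hPw hwtop) hg
    · intro a ha1 hao haC g hag
      set Z := Subgroup.zpowers a with hZdef
      have hZp : ¬ p ∣ Nat.card Z := by rw [Nat.card_zpowers]; exact not_dvd_of_coprime hao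
      have hb₀a : Commute b₀ a := by
        obtain ⟨A, hAN, hAc, hprod⟩ := exists_normalizer_complement P
        set C := Subgroup.centralizer ((P : Subgroup G) : Set G) with hCdef
        have hPC : (P : Subgroup G) ≤ C := le_centralizer P hc
        have hS : Subgroup.normalizer (((P.subtype hPC : Sylow p C) : Subgroup C) : Set C) ≤
            Subgroup.centralizer (((P.subtype hPC : Sylow p C) : Subgroup C) : Set C) := by
          intro x _
          refine Subgroup.mem_centralizer_iff.2 fun s hs => Subtype.ext ?_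
          exact Subgroup.mem_centralizer_iff.1 x.2 (s : G) hs
        have hcompl : Cfsg.HasNormalPComplement p C :=
          ⟨_, _, inferInstance, MonoidHom.ker_transferSylow_isComplement' _ hS⟩
        set K := (Cfsg.pResidual p C).map C.subtype with hKdef
        have hKp : ¬ p ∣ Nat.card K := by
          rw [hKdef, Subgroup.card_map_of_injective C.subtype_injective]
          exact hasNormalPComplement_iff.1 hcompl
        refine hab.commute hKp ?_ hbo ⟨⟨a, haC⟩, mem_pResidual_of_coprime (by rwa [Subgroup.orderOf_mk]), rfl⟩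
        have key : ∀ c ∈ Subgroup.normalizer ((P : Subgroup G) : Set G), ∀ x ∈ K, c * x * c⁻¹ ∈ K := by
          rintro c hcN _ ⟨⟨x, hx⟩, hxr, rfl⟩
          have hxC : c * x * c⁻¹ ∈ C := by
            refine Subgroup.mem_centralizer_iff.2 fun v hv => ?_
            have hv' := (Subgroup.mem_normalizer_iff.1 (inv_mem hcN) v).1 hv
            have := Subgroup.mem_centralizer_iff.1 hx _ hv'
            calc v * (c * x * c⁻¹) = c * ((c⁻¹ * v * c⁻¹⁻¹) * x) * c⁻¹ := by group
              _ = c * (x * (c⁻¹ * v * c⁻¹⁻¹)) * c⁻¹ := by rw [this]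
              _ = c * x * c⁻¹ * v := by group
          refine ⟨⟨c * x * c⁻¹, hxC⟩, mem_pResidual_of_coprime ?_, rfl⟩
          rw [Subgroup.orderOf_mk, orderOf_conj']
          have hd : orderOf (⟨x, hx⟩ : C) ∣ Nat.card (Cfsg.pResidual p C) :=
            Subgroup.orderOf_dvd_natCard _ hxr
          rw [Subgroup.orderOf_mk] at hd
          exact Nat.Coprime.coprime_dvd_left hd
            (hp.out.coprime_iff_not_dvd.2 (hasNormalPComplement_iff.1 hcompl)).symm
        refine Subgroup.mem_normalizer_iff.2 fun x => ⟨key b₀ hbN x, fun hx => ?_⟩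
        have := key b₀⁻¹ (inv_mem hbN) _ hx
        simpa [mul_assoc] using this
      have hPa : (P : Subgroup G) ≤ Subgroup.centralizer ({a} : Set G) := fun x hx =>
        Subgroup.mem_centralizer_singleton_iff.2 (Subgroup.mem_centralizer_iff.1 haC x hx)
      have hb₀mem : b₀ ∈ Subgroup.centralizer ({a} : Set G) :=
        Subgroup.mem_centralizer_singleton_iff.2 hb₀a.eq
      have hne : Subgroup.centralizer ({a} : Set G) ≠ ⊤ := by
        intro htop
        have hcen : ∀ x : G, Commute x a := fun x =>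
          Subgroup.mem_centralizer_singleton_iff.1 (htop ▸ Subgroup.mem_top x)
        have hZn : Z.Normal := ⟨fun z hz x => by
          obtain ⟨i, rfl⟩ := Subgroup.mem_zpowers_iff.1 hz
          rw [((hcen x).zpow_right i).eq, mul_inv_cancel_right]
          exact hz⟩
        have hlt : Nat.card (G ⧸ Z) ≤ n := by
          have h1 := Subgroup.card_eq_card_quotient_mul_card_subgroup Z
          have hZ2 : 2 ≤ Nat.card Z := by
            rw [Nat.card_zpowers]
            have := orderOf_pos a
            have := mt orderOf_eq_one_iff.1 ha1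
            omega
          have h2 := Nat.card_pos (α := G ⧸ Z)
          nlinarith
        let S : Sylow p (G ⧸ Z) := P.mapSurjective (QuotientGroup.mk'_surjective Z)
        have hSc : IsCyclic S := by
          have hm : IsCyclic ((P : Subgroup G).map (QuotientGroup.mk' Z)) :=
            isCyclic_of_surjective ((QuotientGroup.mk' Z).subgroupMap (P : Subgroup G))
              ((QuotientGroup.mk' Z).subgroupMap_surjective _)
          exact hm
        rcases ih hlt S hSc (hab.quotient Z hZp) with hcomp | hSn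
        · set K := (Cfsg.pResidual p (G ⧸ Z)).comap (QuotientGroup.mk' Z) with hKdef
          have hKn : K.Normal := (pResidual_normal (p := p) (G := G ⧸ Z)).comap _
          have hKp : ¬ p ∣ Nat.card K := by
            rw [hKdef, CfsgLib.PCore.card_comap_mk']
            exact fun hd => (hp.out.dvd_mul.1 hd).elim hZp (hasNormalPComplement_iff.1 hcomp)
          refine hPn (normal_of_sup_normal P hab hc hnc K hKp ?_)
          obtain ⟨k, hk⟩ := index_pResidual (p := p) (G := G ⧸ Z)
          have hidx : K.index = p ^ k := by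
            rw [hKdef, Subgroup.index_comap_of_surjective _ (QuotientGroup.mk'_surjective Z), hk]
          rw [sup_comm, sup_sylow_eq_top hidx P]
          exact inferInstance
        · refine hPn (normal_of_sup_normal P hab hc hnc Z hZp ?_)
          have e : (S : Subgroup (G ⧸ Z)).comap (QuotientGroup.mk' Z) = (P : Subgroup G) ⊔ Z := by
            show ((P : Subgroup G).map (QuotientGroup.mk' Z)).comap (QuotientGroup.mk' Z) = _
            rw [Subgroup.comap_map_eq, QuotientGroup.ker_mk']
          rw [← e]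
          exact hSn.comap _
      exact le_normalizer_of_mem hab P hc _ hPa hb₀mem hbN hbo hbC (hsub _ hPa hne)
        (Subgroup.mem_centralizer_singleton_iff.2 hag.eq.symm)
    · intro q hqf hqp hqG Q hQ
      obtain ⟨M, hMn, hM, hPM⟩ := exists_normal_of_normalizer_le P hqp Q hqG hQ
      exact hnormal M hMn hM hPM

end CfsgLib.CyclicSylow
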