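import Cfsg.Agent.Transfer.AbelianSylow
import Cfsg.Agent.Transfer.Frobenius
import Cfsg.Agent.SylowConj.Basic
import Cfsg.Agent.PCore.Basic

/-!
Groups with a cyclic Sylow `p`-subgroup in which the `p'`-subgroups are abelian: elementary facts.
-/

namespace CfsgLib.CyclicSylow

open scoped commutatorElement
open CfsgLib.Transfer

/-- Every `p'`-subgroup is abelian. -/
def AbelianPPrime (p : ℕ) (G : Type*) [Group G] : Prop :=
  ∀ H : Subgroup G, ¬ p ∣ Nat.card H → IsMulCommutative H

section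
variable {p : ℕ} {G : Type*} [Group G] [Finite G] [hp : Fact p.Prime]

theorem not_dvd_of_coprime {n : ℕ} (h : n.Coprime p) : ¬ p ∣ n :=
  fun hd => hp.out.not_dvd_one (h ▸ Nat.dvd_gcd hd dvd_rfl)

omit hp in
theorem commute_of_isMulCommutative {H : Subgroup G} (h : IsMulCommutative H) {x y : G}
    (hx : x ∈ H) (hy : y ∈ H) : Commute x y := by
  have := h
  exact congrArg Subtype.val (mul_comm' (⟨x, hx⟩ : H) ⟨y, hy⟩)

theorem AbelianPPrime.subgroup (h : AbelianPPrime p G) (X : Subgroup G) : AbelianPPrime p X := by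
  intro H hH
  have hc : Nat.card (H.map X.subtype) = Nat.card H :=
    Subgroup.card_map_of_injective X.subtype_injective
  have := h (H.map X.subtype) (by rwa [hc])
  refine ⟨⟨fun a b => Subtype.ext (Subtype.ext ?_)⟩⟩
  exact commute_of_isMulCommutative this (Subgroup.mem_map_of_mem X.subtype a.2)
    (Subgroup.mem_map_of_mem X.subtype b.2)

theorem AbelianPPrime.quotient (h : AbelianPPrime p G) (Z : Subgroup G) [Z.Normal]
    (hZ : ¬ p ∣ Nat.card Z) : AbelianPPrime p (G ⧸ Z) := by
  intro H hH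
  have := h (H.comap (QuotientGroup.mk' Z)) (by
    rw [CfsgLib.PCore.card_comap_mk']
    exact fun hd => (hp.out.dvd_mul.1 hd).elim hZ hH)
  refine ⟨⟨fun a b => Subtype.ext ?_⟩⟩
  obtain ⟨x, hx⟩ := QuotientGroup.mk'_surjective Z a.1
  obtain ⟨y, hy⟩ := QuotientGroup.mk'_surjective Z b.1
  have hc := commute_of_isMulCommutative this (x := x) (y := y)
    (by rw [Subgroup.mem_comap, hx]; exact a.2) (by rw [Subgroup.mem_comap, hy]; exact b.2)
  show a.1 * b.1 = b.1 * a.1
  rw [← hx, ← hy, ← map_mul, ← map_mul, hc.eq]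

theorem not_dvd_card_sup {K L : Subgroup G} (hL : L ≤ Subgroup.normalizer (K : Set G))
    (hK : ¬ p ∣ Nat.card K) (hL' : ¬ p ∣ Nat.card L) : ¬ p ∣ Nat.card ↥(K ⊔ L) := by
  set M := Subgroup.normalizer (K : Set G)
  have hKM : K ≤ M := Subgroup.le_normalizer
  have hn : (K.subgroupOf M).Normal := Subgroup.normal_in_normalizer
  have hdvd := CfsgLib.PCore.card_sup_dvd (K.subgroupOf M) (L.subgroupOf M)
  have h1 : Nat.card (K.subgroupOf M) = Nat.card K :=
    Nat.card_congr (Subgroup.subgroupOfEquivOfLe hKM).toEquiv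
  have h2 : Nat.card (L.subgroupOf M) = Nat.card L :=
    Nat.card_congr (Subgroup.subgroupOfEquivOfLe hL).toEquiv
  have h3 : Nat.card ↥(K ⊔ L) = Nat.card ↥(L.subgroupOf M ⊔ K.subgroupOf M) := by
    rw [sup_comm, ← Subgroup.card_map_of_injective (K := L.subgroupOf M ⊔ K.subgroupOf M) M.subtype_injective,
      Subgroup.map_sup, Subgroup.map_subgroupOf_eq_of_le hKM, Subgroup.map_subgroupOf_eq_of_le hL]
  rw [h1, h2, ← h3] at hdvd
  exact fun hd => (hp.out.dvd_mul.1 (hd.trans hdvd)).elim hL' hK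

omit hp in
theorem zpowers_le_normalizer {K : Subgroup G} {t : G} (ht : t ∈ Subgroup.normalizer (K : Set G)) :
    Subgroup.zpowers t ≤ Subgroup.normalizer (K : Set G) :=
  Subgroup.zpowers_le.2 ht

/-- A `p'`-element normalising a `p'`-subgroup centralises it. -/
theorem AbelianPPrime.commute (h : AbelianPPrime p G) {K : Subgroup G} {t k : G}
    (hK : ¬ p ∣ Nat.card K) (ht : t ∈ Subgroup.normalizer (K : Set G))
    (hto : (orderOf t).Coprime p) (hk : k ∈ K) : Commute t k := by
  have hZ : ¬ p ∣ Nat.card (Subgroup.zpowers t) := by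
    rw [Nat.card_zpowers]; exact not_dvd_of_coprime hto
  exact commute_of_isMulCommutative (h _ (not_dvd_card_sup (zpowers_le_normalizer ht) hK hZ))
    (Subgroup.mem_sup_right (Subgroup.mem_zpowers t)) (Subgroup.mem_sup_left hk)

/-- A `p`-element normalising a Sylow subgroup lies in it. -/
theorem mem_sylow_of_normalizer (P : Sylow p G) {a : G} {k : ℕ} (ha : orderOf a = p ^ k)
    (h : a ∈ Subgroup.normalizer ((P : Subgroup G) : Set G)) : a ∈ (P : Subgroup G) :=
  CfsgLib.SylowConj.mem_of_mem_normalizer P a h (IsPGroup.of_card (by rw [Nat.card_zpowers]; exact ha))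

theorem mem_sylow_of_normalizer' (P : Sylow p G) {Y : Subgroup G} (hY : IsPGroup p Y) {a : G} (ha : a ∈ Y)
    (h : a ∈ Subgroup.normalizer ((P : Subgroup G) : Set G)) : a ∈ (P : Subgroup G) :=
  CfsgLib.SylowConj.mem_of_mem_normalizer P a h (hY.to_le (Subgroup.zpowers_le.2 ha))

theorem coprime_of_normalizer (P : Sylow p G) {b : G} (hb : (orderOf b).Coprime p) :
    (Nat.card (Subgroup.zpowers b)).Coprime (Nat.card (P : Subgroup G)) := by
  obtain ⟨k, hk⟩ := IsPGroup.iff_card.mp P.isPGroup'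
  rw [Nat.card_zpowers, hk]
  exact Nat.Coprime.pow_right k hb

theorem eq_one_of_mem_sylow (P : Sylow p G) {b : G} (hb : (orderOf b).Coprime p)
    (hbP : b ∈ (P : Subgroup G)) : b = 1 := by
  have := Subgroup.inf_eq_bot_of_coprime (coprime_of_normalizer P hb)
  exact Subgroup.mem_bot.1 (this ▸ ⟨Subgroup.mem_zpowers b, hbP⟩)

variable (P : Sylow p G)

theorem isMulCommutative_of_cyclic (hc : IsCyclic P) : IsMulCommutative (P : Subgroup G) :=
  ⟨⟨fun a b => by
    letI := hc.commGroup
    exact mul_comm a b⟩⟩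

theorem le_centralizer (hc : IsCyclic P) :
    (P : Subgroup G) ≤ Subgroup.centralizer ((P : Subgroup G) : Set G) := fun x hx =>
  Subgroup.mem_centralizer_iff.2 fun y hy =>
    commute_of_isMulCommutative (isMulCommutative_of_cyclic P hc) hy hx

/-- In a cyclic `p`-group an element of order `p` lies in every nontrivial subgroup. -/
theorem mem_zpowers_of_orderOf (hc : IsCyclic P) {v x : G} (hv : v ∈ (P : Subgroup G))
    (hx : x ∈ (P : Subgroup G)) (hvo : orderOf v = p) (hx1 : x ≠ 1) : v ∈ Subgroup.zpowers x := by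
  have hne : Subgroup.zpowers v ⊓ Subgroup.zpowers x ≠ ⊥ := fun h0 => by
    rcases eq_bot_or_eq_bot_of_cyclic P.isPGroup' hc (Subgroup.zpowers_le.2 hv)
      (Subgroup.zpowers_le.2 hx) h0 with h | h
    · rw [Subgroup.zpowers_eq_bot.1 h, orderOf_one] at hvo
      exact hp.out.ne_one hvo.symm
    · exact hx1 (Subgroup.zpowers_eq_bot.1 h)
  obtain ⟨⟨w, hw⟩, hw1⟩ := Subgroup.ne_bot_iff_exists_ne_one.1 hne
  replace hw1 : w ≠ 1 := fun h => hw1 (Subtype.ext h)
  have hle : Subgroup.zpowers w ≤ Subgroup.zpowers v := Subgroup.zpowers_le.2 hw.1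
  have hcard := Subgroup.card_dvd_of_le hle
  rw [Nat.card_zpowers, Nat.card_zpowers, hvo] at hcard
  rcases (Nat.dvd_prime hp.out).1 hcard with h | h
  · exact absurd (orderOf_eq_one_iff.1 h) hw1
  · have heq : Subgroup.zpowers w = Subgroup.zpowers v := by
      refine Subgroup.eq_of_le_of_card_ge hle (le_of_eq ?_)
      rw [Nat.card_zpowers, Nat.card_zpowers, hvo, h]
    exact Subgroup.zpowers_le.2 hw.2 (heq ▸ Subgroup.mem_zpowers v)

/-- A `p'`-element normalising the cyclic `P` and fixing a nontrivial element of it centralises it. -/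
theorem mem_centralizer_of_fixes (hc : IsCyclic P) {b x : G}
    (hbN : b ∈ Subgroup.normalizer ((P : Subgroup G) : Set G)) (hb : (orderOf b).Coprime p)
    (hx : x ∈ (P : Subgroup G)) (hx1 : x ≠ 1) (hbx : Commute b x) :
    b ∈ Subgroup.centralizer ((P : Subgroup G) : Set G) := by
  have := isMulCommutative_of_cyclic P hc
  refine CfsgLib.CoprimeAction.le_centralizer_of_fixes_prime_order (zpowers_le_normalizer hbN)
    (coprime_of_normalizer P hb) ?_ (Subgroup.mem_zpowers b)
  intro v hv hvo a ha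
  obtain ⟨k, hk⟩ := IsPGroup.iff_card.mp P.isPGroup'
  have hvp : orderOf v = p :=
    (Nat.prime_dvd_prime_iff_eq hvo hp.out).1 (hvo.dvd_of_dvd_pow (hk ▸ Subgroup.orderOf_dvd_natCard _ hv))
  obtain ⟨i, rfl⟩ := Subgroup.mem_zpowers_iff.1 (mem_zpowers_of_orderOf P hc hv hx hvp hx1)
  obtain ⟨j, rfl⟩ := Subgroup.mem_zpowers_iff.1 ha
  exact ((hbx.zpow_left j).zpow_right i).eq

/-- A `p'`-element of the normaliser not centralising the cyclic `P` satisfies `[P, b] = P`. -/
theorem commutator_eq_self (hc : IsCyclic P) {b : G}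
    (hbN : b ∈ Subgroup.normalizer ((P : Subgroup G) : Set G)) (hb : (orderOf b).Coprime p)
    (hbC : b ∉ Subgroup.centralizer ((P : Subgroup G) : Set G)) :
    ⁅(P : Subgroup G), Subgroup.zpowers b⁆ = (P : Subgroup G) := by
  have hsolv : Group.IsSolvable (P : Subgroup G) := by
    have := P.isPGroup'.isNilpotent
    infer_instance
  have hC : (P : Subgroup G) ⊓ Subgroup.centralizer (Subgroup.zpowers b : Set G) = ⊥ := by
    rw [Subgroup.eq_bot_iff_forall]
    rintro x ⟨hx, hxc⟩
    by_contra hx1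
    exact hbC (mem_centralizer_of_fixes P hc hbN hb hx hx1
      (Subgroup.mem_centralizer_iff.1 hxc b (Subgroup.mem_zpowers b)))
  have h := CfsgLib.CoprimeAction.commutator_sup_centralizer (zpowers_le_normalizer hbN)
    (coprime_of_normalizer P hb) (Or.inr hsolv)
  rwa [hC, sup_bot_eq] at h

theorem exists_moving (hc : IsCyclic P)
    (h : ¬ Subgroup.normalizer ((P : Subgroup G) : Set G) ≤ Subgroup.centralizer ((P : Subgroup G) : Set G)) :
    ∃ b ∈ Subgroup.normalizer ((P : Subgroup G) : Set G), (orderOf b).Coprime p ∧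
      b ∉ Subgroup.centralizer ((P : Subgroup G) : Set G) := by
  obtain ⟨n, hn, hnC⟩ := SetLike.not_le_iff_exists.1 h
  obtain ⟨a, b, hab, -, ⟨k, hak⟩, hb, haz, hbz⟩ := exists_pPart_mul (p := p) n
  have hz : Subgroup.zpowers n ≤ Subgroup.normalizer ((P : Subgroup G) : Set G) := Subgroup.zpowers_le.2 hn
  refine ⟨b, hz hbz, hb, fun hbC => hnC (hab ▸ mul_mem ?_ hbC)⟩
  exact le_centralizer P hc (mem_sylow_of_normalizer P hak (hz haz))

theorem le_normal_of_mem (hc : IsCyclic P) (C : Subgroup G) [C.Normal] {b : G}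
    (hbN : b ∈ Subgroup.normalizer ((P : Subgroup G) : Set G)) (hb : (orderOf b).Coprime p)
    (hbC : b ∉ Subgroup.centralizer ((P : Subgroup G) : Set G)) (hb' : b ∈ C) : (P : Subgroup G) ≤ C := by
  rw [← commutator_eq_self P hc hbN hb hbC]
  exact (Subgroup.commutator_mono le_rfl (Subgroup.zpowers_le.2 hb')).trans (Subgroup.commutator_le_right _ _)

/-- A normal subgroup containing `P` and normalising it makes `P` normal. -/
theorem normal_of_normal_le (M : Subgroup G) [M.Normal] (hPM : (P : Subgroup G) ≤ M)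
    (hM : M ≤ Subgroup.normalizer ((P : Subgroup G) : Set G)) : (P : Subgroup G).Normal := by
  refine ⟨fun x hx g => ?_⟩
  obtain ⟨k, hk⟩ := P.isPGroup' ⟨x, hx⟩
  have hk' : x ^ p ^ k = 1 := congrArg Subtype.val hk
  have hd : orderOf (g * x * g⁻¹) ∣ p ^ k := orderOf_dvd_of_pow_eq_one (by rw [conj_pow, hk']; group)
  obtain ⟨i, -, hi⟩ := (Nat.dvd_prime_pow hp.out).1 hd
  exact mem_sylow_of_normalizer P hi (hM (‹M.Normal›.conj_mem x (hPM hx) g))

/-- If `K` is a normal `p'`-subgroup with `KP` normal and `P` is not central in its normaliser, `P` is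
normal. -/
theorem normal_of_sup_normal (hab : AbelianPPrime p G) (hc : IsCyclic P)
    (hnc : ¬ Subgroup.normalizer ((P : Subgroup G) : Set G) ≤ Subgroup.centralizer ((P : Subgroup G) : Set G))
    (K : Subgroup G) [K.Normal] (hK : ¬ p ∣ Nat.card K) (hn : ((P : Subgroup G) ⊔ K).Normal) :
    (P : Subgroup G).Normal := by
  obtain ⟨b, hbN, hb, hbC⟩ := exists_moving P hc hnc
  have hbK : b ∈ Subgroup.centralizer (K : Set G) := Subgroup.mem_centralizer_iff.2 fun k hk =>
    (hab.commute hK (by rw [Subgroup.normalizer_eq_top]; trivial) hb hk).eq.symm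
  have hPK := le_normal_of_mem P hc (Subgroup.centralizer (K : Set G)) hbN hb hbC hbK
  have := hn
  refine normal_of_normal_le P ((P : Subgroup G) ⊔ K) le_sup_left (sup_le Subgroup.le_normalizer ?_)
  intro k hk
  refine Subgroup.mem_normalizer_iff.2 fun x => ?_
  constructor
  · intro hx
    have := Subgroup.mem_centralizer_iff.1 (hPK hx) k hk
    rwa [this, mul_inv_cancel_right]
  · intro hx
    have h := Subgroup.mem_centralizer_iff.1 (hPK hx) k hk
    have e : x = k * x * k⁻¹ := by
      calc x = k⁻¹ * ((k * x * k⁻¹) * k) := by group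
        _ = k⁻¹ * (k * (k * x * k⁻¹)) := by rw [h]
        _ = k * x * k⁻¹ := by group
    exact e ▸ hx

/-- A normal `q`-complement: Burnside, as a subgroup containing all elements of order prime to `q`. -/
theorem exists_normal_of_normalizer_le {q : ℕ} [Fact q.Prime] (hqp : q ≠ p) (Q : Sylow q G)
    (hq : q ∣ Nat.card G)
    (h : Subgroup.normalizer ((Q : Subgroup G) : Set G) ≤ Subgroup.centralizer ((Q : Subgroup G) : Set G)) :
    ∃ M : Subgroup G, M.Normal ∧ M ≠ ⊤ ∧ (P : Subgroup G) ≤ M := by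
  refine ⟨(MonoidHom.transferSylow Q h).ker, inferInstance, fun ht => ?_, fun x hx => ?_⟩
  · have := MonoidHom.not_dvd_card_ker_transferSylow Q h
    rw [ht, Subgroup.card_top] at this
    exact this hq
  · rw [MonoidHom.mem_ker, ← orderOf_eq_one_iff]
    obtain ⟨k, hk⟩ := IsPGroup.iff_card.mp P.isPGroup'
    obtain ⟨l, hl⟩ := IsPGroup.iff_card.mp Q.isPGroup'
    have h1 : orderOf (MonoidHom.transferSylow Q h x) ∣ p ^ k :=
      (orderOf_map_dvd _ x).trans (hk ▸ Subgroup.orderOf_dvd_natCard _ hx)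
    have h2 : orderOf (MonoidHom.transferSylow Q h x) ∣ q ^ l := hl ▸ orderOf_dvd_natCard _
    exact Nat.eq_one_of_dvd_coprimes
      (Nat.Coprime.pow k l ((Nat.coprime_primes hp.out (Fact.out : q.Prime)).2 hqp.symm)) h1 h2

end

end CfsgLib.CyclicSylow
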